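import Groth.Agent.NL17.Basic
import Mathlib.Algebra.Homology.ShortComplex.ModuleCat

/-!
# When `bcMapSelf` is a quasi-isomorphism
-/

set_option autoImplicit false
set_option linter.style.haveILetI false

universe u

open CategoryTheory CategoryTheory.Limits TensorProduct Algebra

attribute [local instance] HasDerivedCategory.standard

namespace Groth.Agent.NL17

section Criterion

variable {A : Type u} [CommRing A]

/-- Elementwise criterion for quasi-isomorphisms of short complexes. -/
theorem quasiIso_sc {S T : ShortComplex (ModuleCat.{u} A)} (φ : S ⟶ T)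
    (hinj : ∀ x, S.g x = 0 → (∃ z, T.f z = φ.τ₂ x) → ∃ w, S.f w = x)
    (hsurj : ∀ y, T.g y = 0 → ∃ x, S.g x = 0 ∧ ∃ z, T.f z = φ.τ₂ x - y) :
    ShortComplex.QuasiIso φ := by
  let h₁ := S.moduleCatLeftHomologyData
  let h₂ := T.moduleCatLeftHomologyData
  rw [ShortComplex.quasiIso_iff_isIso_leftHomologyMap' φ h₁ h₂]
  let L := ShortComplex.leftHomologyMap' φ h₁ h₂
  have key : ∀ k : h₁.K, ∃ k' : h₂.K,
      Subtype.val k' = φ.τ₂ (Subtype.val k) ∧ L (h₁.π k) = h₂.π k' := fun k =>
    ⟨ShortComplex.cyclesMap' φ h₁ h₂ k,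
      ConcreteCategory.congr_hom (ShortComplex.cyclesMap'_i φ h₁ h₂) k,
      ConcreteCategory.congr_hom (ShortComplex.leftHomologyπ_naturality' φ h₁ h₂) k⟩
  refine (ConcreteCategory.isIso_iff_bijective L).2 ⟨?_, ?_⟩
  · refine (injective_iff_map_eq_zero L.hom).2 fun c hc => ?_
    obtain ⟨k, rfl⟩ := Submodule.Quotient.mk_surjective _ c
    obtain ⟨k', hk', hL⟩ := key k
    obtain ⟨z, hz⟩ := (Submodule.Quotient.mk_eq_zero _).1 (hL.symm.trans hc)
    obtain ⟨w, hw⟩ := hinj k.1 k.2 ⟨z, (congrArg Subtype.val hz).trans hk'⟩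
    exact (Submodule.Quotient.mk_eq_zero _).2 ⟨w, Subtype.ext hw⟩
  · intro c
    obtain ⟨y, rfl⟩ := Submodule.Quotient.mk_surjective _ c
    obtain ⟨x, hx, z, hz⟩ := hsurj y.1 y.2
    obtain ⟨k', hk', hL⟩ := key ⟨x, hx⟩
    refine ⟨h₁.π ⟨x, hx⟩, hL.trans ((Submodule.Quotient.eq _).2 ⟨z, Subtype.ext ?_⟩)⟩
    exact hz.trans (congrArg (· - y.1) hk'.symm)

local notation "ℓ" => rel₀

/-- A map of two-term complexes is a quasi-isomorphism if it is bijective on kernels and cokernels. -/
theorem quasiIso_double {X₀ X₁ Y₀ Y₁ : ModuleCat.{u} A} (φ : X₀ ⟶ X₁) (ψ : Y₀ ⟶ Y₁)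
    {f : HomologicalComplex.double φ ℓ ⟶ HomologicalComplex.double ψ ℓ}
    (g₀ : X₀ ⟶ Y₀) (g₁ : X₁ ⟶ Y₁)
    (h₀ : f.f (-1) = (HomologicalComplex.doubleXIso₀ φ ℓ).hom ≫ g₀ ≫
      (HomologicalComplex.doubleXIso₀ ψ ℓ).inv)
    (h₁ : f.f 0 = (HomologicalComplex.doubleXIso₁ φ ℓ (by decide)).hom ≫ g₁ ≫
      (HomologicalComplex.doubleXIso₁ ψ ℓ (by decide)).inv)
    (inj₀ : ∀ x, φ x = 0 → g₀ x = 0 → x = 0)
    (surj₀ : ∀ y, ψ y = 0 → ∃ x, φ x = 0 ∧ g₀ x = y)
    (inj₁ : ∀ x, (∃ z, ψ z = g₁ x) → ∃ w, φ w = x)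
    (surj₁ : ∀ y, ∃ x, ∃ z, ψ z = g₁ x - y) : QuasiIso f := by
  let a := (HomologicalComplex.doubleXIso₀ φ ℓ).toLinearEquiv
  let b := (HomologicalComplex.doubleXIso₁ φ ℓ (by decide)).toLinearEquiv
  let a' := (HomologicalComplex.doubleXIso₀ ψ ℓ).toLinearEquiv
  let b' := (HomologicalComplex.doubleXIso₁ ψ ℓ (by decide)).toLinearEquiv
  have hd : ∀ x, (HomologicalComplex.double φ ℓ).d (-1) 0 x = b.symm (φ (a x)) := fun x => by
    rw [HomologicalComplex.double_d φ ℓ (by decide)]; rfl
  have hd' : ∀ x, (HomologicalComplex.double ψ ℓ).d (-1) 0 x = b'.symm (ψ (a' x)) := fun x => by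
    rw [HomologicalComplex.double_d ψ ℓ (by decide)]; rfl
  have hf₀ : ∀ x, f.f (-1) x = a'.symm (g₀ (a x)) := fun x => by rw [h₀]; rfl
  have hf₁ : ∀ x, f.f 0 x = b'.symm (g₁ (b x)) := fun x => by rw [h₁]; rfl
  refine ⟨fun i => ?_⟩
  by_cases hi : i = -1
  · subst hi
    rw [quasiIsoAt_iff' f (-2) (-1) 0 (by simp) (by simp)]
    refine quasiIso_sc _ (fun x hx ⟨z, hz⟩ => ⟨0, ?_⟩) fun y hy => ?_
    · have hz' : f.f (-1) x = 0 := hz.symm.trans (by
        show (HomologicalComplex.double ψ ℓ).d (-2) (-1) z = 0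
        rw [HomologicalComplex.double_d_eq_zero₀ ψ ℓ (-2) (-1) (by decide)]
        rfl)
      have h1 : g₀ (a x) = 0 := a'.symm.injective ((hf₀ x).symm.trans (hz'.trans (map_zero _).symm))
      have h2 : φ (a x) = 0 := b.symm.injective ((hd x).symm.trans (hx.trans (map_zero _).symm))
      exact (map_zero _).trans (a.injective ((map_zero a).trans (inj₀ _ h2 h1).symm))
    · obtain ⟨x, hx, hgx⟩ := surj₀ (a' y)
        (b'.symm.injective ((hd' y).symm.trans (hy.trans (map_zero _).symm)))
      refine ⟨a.symm x, ?_, 0, (map_zero _).trans ?_⟩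
      · exact (hd _).trans ((congrArg b.symm ((congrArg φ (a.apply_symm_apply x)).trans hx)).trans (map_zero _))
      · refine (sub_eq_zero.2 ?_).symm
        exact (hf₀ _).trans (by rw [a.apply_symm_apply, hgx, a'.symm_apply_apply])
  · by_cases hi' : i = 0
    · subst hi'
      rw [quasiIsoAt_iff' f (-1) 0 1 (by simp) (by simp)]
      refine quasiIso_sc _ (fun x _ ⟨z, hz⟩ => ?_) fun y _ => ?_
      · obtain ⟨w, hw⟩ := inj₁ (b x) ⟨a' z, b'.symm.injective (((hd' z).symm.trans hz).trans (hf₁ x))⟩
        refine ⟨a.symm w, (hd _).trans ?_⟩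
        rw [a.apply_symm_apply, hw, b.symm_apply_apply]
      · obtain ⟨x, z, hz⟩ := surj₁ (b' y)
        refine ⟨b.symm x, ?_, a'.symm z, (hd' _).trans ?_⟩
        · show (HomologicalComplex.double φ ℓ).d 0 1 (b.symm x) = 0
          rw [HomologicalComplex.double_d_eq_zero₀ φ ℓ 0 1 (by decide)]
          rfl
        · rw [a'.apply_symm_apply, hz, map_sub, b'.symm_apply_apply]
          exact congrArg (· - y) ((congrArg (fun t => b'.symm (g₁ t)) (b.apply_symm_apply x)).symm.trans
            (hf₁ _).symm)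
    · rw [quasiIsoAt_iff_exactAt']
      · exact HomologicalComplex.ExactAt.of_isZero
          (HomologicalComplex.isZero_double_X φ ℓ i hi hi')
      · exact HomologicalComplex.ExactAt.of_isZero
          (HomologicalComplex.isZero_double_X ψ ℓ i hi hi')

end Criterion

section Self

variable {R S R' S' : Type u} [CommRing R] [CommRing S] [Algebra R S] [CommRing R'] [CommRing S']
  [Algebra R' S'] [Algebra R R'] [Algebra S S'] [Algebra R S'] [IsScalarTower R R' S']
  [IsScalarTower R S S']

/-- The projection to differentials is natural. -/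
theorem toKaehler_map {P : Extension.{u} R S} {P' : Extension.{u} R' S'} (f : P.Hom P')
    (x : P.CotangentSpace) :
    P'.toKaehler (Extension.CotangentSpace.map f x) =
      KaehlerDifferential.map R R' S S' (P.toKaehler x) := by
  induction x using TensorProduct.induction_on with
  | zero => simp only [map_zero]
  | add a b ha hb => simp only [map_add, ha, hb]
  | tmul s y =>
    obtain ⟨y, rfl⟩ := KaehlerDifferential.tensorProductTo_surjective _ _ y
    induction y with
    | zero => simp only [map_zero, tmul_zero]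
    | add a b ha hb => simp only [map_add, tmul_add, ha, hb]
    | tmul a b =>
      simp [Derivation.tensorProductTo_tmul, tmul_smul, smul_tmul', Extension.toKaehler]
      rw [← smul_assoc, map_smul, KaehlerDifferential.map_D]

variable (R S R' S')

/-- For flat `S → S'`, `bcMapSelf` is a quasi-isomorphism once it is bijective on `H¹` and on differentials. -/
theorem quasiIso_bcMapSelf [Module.Flat S S']
    (h1 : Function.Bijective
      ((Algebra.H1Cotangent.map R R' S S').liftBaseChange S'))
    (h0 : Function.Bijective (NLCx.bcH0Map R S R' S')) :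
    QuasiIso (NLCx.bcMapSelf R S R' S') := by
  let P := (Generators.self R S).toExtension
  let P' := (Generators.self R' S').toExtension
  let f : P.Hom P' :=
    ((Generators.self R S).defaultHom (Generators.self R' S')).toExtensionHom
  let ι : P.H1Cotangent →ₗ[S] P.Cotangent := Extension.h1Cotangentι
  have hιex : Function.Exact (ι.baseChange S') (P.cotangentComplex.baseChange S') :=
    Module.Flat.lTensor_exact S' P.exact_hCotangentι_cotangentComplex
  have hι : Function.Injective (ι.baseChange S') :=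
    Module.Flat.lTensor_preserves_injective_linearMap _ P.h1Cotangentι_injective
  let L := (Algebra.H1Cotangent.map R R' S S').liftBaseChange S'
  have hL : ∀ w, cotF f (ι.baseChange S' w) = (L w).1 := fun w => by
    induction w using TensorProduct.induction_on with
    | zero => simp only [map_zero]; rfl
    | add a b ha hb => simp only [map_add, ha, hb]; rfl
    | tmul s a =>
      rw [LinearMap.baseChange_tmul, cotF_tmul]
      show _ = ((L (s ⊗ₜ a)) : P'.H1Cotangent).1
      rw [LinearMap.liftBaseChange_tmul]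
      rfl
  let π := P.toKaehler.baseChange S'
  have hπex : Function.Exact (P.cotangentComplex.baseChange S') π :=
    lTensor_exact S' P.exact_cotangentComplex_toKaehler P.toKaehler_surjective
  have hπ : Function.Surjective π := LinearMap.lTensor_surjective S' P.toKaehler_surjective
  have hKey : ∀ x, P'.toKaehler (spF f x) = NLCx.bcH0Map R S R' S' (π x) := fun x => by
    induction x using TensorProduct.induction_on with
    | zero => simp only [map_zero]
    | add a b ha hb => simp only [map_add, ha, hb]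
    | tmul s z =>
      simp only [π, LinearMap.baseChange_tmul, NLCx.bcH0Map, LinearMap.liftBaseChange_tmul,
        map_smul, toKaehler_map f z]
  refine quasiIso_double _ _ (ModuleCat.ofHom (cotF f)) (ModuleCat.ofHom (spF f))
    (bcMap_f₀ f) (bcMap_f₁ f) (fun x hx hfx => ?_) (fun y hy => ?_) (fun x ⟨z, hz⟩ => ?_) fun y => ?_
  · obtain ⟨w, rfl⟩ := (hιex x).1 hx
    have : L w = 0 := Subtype.ext ((hL w).symm.trans hfx)
    rw [h1.1 (this.trans (map_zero L).symm), map_zero]
  · obtain ⟨w, hw⟩ := h1.2 ⟨y, hy⟩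
    exact ⟨ι.baseChange S' w, hιex.apply_apply_eq_zero w,
      (hL w).trans (congrArg Subtype.val hw)⟩
  · refine (hπex x).1 (h0.1 ?_)
    rw [map_zero, ← hKey]
    exact ((congrArg P'.toKaehler hz).symm.trans
      (P'.exact_cotangentComplex_toKaehler.apply_apply_eq_zero z))
  · obtain ⟨v, hv⟩ := h0.2 (P'.toKaehler y)
    obtain ⟨x, rfl⟩ := hπ v
    refine ⟨x, ?_⟩
    refine (P'.exact_cotangentComplex_toKaehler _).1 ?_
    exact (map_sub _ _ _).trans (sub_eq_zero.2 ((hKey x).trans hv))

end Self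

end Groth.Agent.NL17
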