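import Groth.Agent.NL17.Union
import Groth.Agent.NL17.QuasiIso
import Mathlib.RingTheory.Kaehler.JacobiZariski

/-!
# Base and top changes by ind-étale maps
-/

set_option autoImplicit false
set_option linter.style.haveILetI false

universe u

open TensorProduct Algebra

attribute [local instance] HasDerivedCategory.standard

namespace Groth.Agent.NL17

section

variable (A A' T : Type u) [CommRing A] [CommRing A'] [CommRing T] [Algebra A A'] [Algebra A' T]
  [Algebra A T] [IsScalarTower A A' T]

theorem bijective_map_base [h1 : Subsingleton (Algebra.H1Cotangent A A')] [h0 : Subsingleton Ω[A'⁄A]] :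
    Function.Bijective (Algebra.H1Cotangent.map A A' T T) := by
  haveI : Subsingleton (T ⊗[A'] Ω[A'⁄A]) := ⟨fun x y => by
    have : ∀ z : T ⊗[A'] Ω[A'⁄A], z = 0 := fun z => by
      induction z using TensorProduct.induction_on with
      | zero => rfl
      | tmul t w => rw [Subsingleton.elim w 0, tmul_zero]
      | add a b ha hb => rw [ha, hb, add_zero]
    rw [this x, this y]⟩
  refine ⟨?_, fun z => (Algebra.H1Cotangent.exact_map_δ A A' T z).1 (Subsingleton.elim _ _)⟩
  let P := Generators.self A A'
  let Q := Generators.self A' T
  let W := Generators.self A T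
  have hd : Function.Bijective P.toExtension.cotangentComplex := by
    refine ⟨P.toExtension.subsingleton_h1Cotangent.1 h1, ?_⟩
    intro x
    exact (P.toExtension.exact_cotangentComplex_toKaehler x).1 (Subsingleton.elim _ _)
  let e := LinearEquiv.ofBijective _ hd
  have hdT : Function.Injective (P.toExtension.cotangentComplex.baseChange T) :=
    (TensorProduct.congr (LinearEquiv.refl A' T) e).injective
  refine (injective_iff_map_eq_zero _).2 fun x₀ hx₀ => ?_
  let g : W.toExtension.Hom (Q.comp P).toExtension := (W.defaultHom (Q.comp P)).toExtensionHom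
  let x := Extension.H1Cotangent.map g x₀
  have hx : Extension.H1Cotangent.map (Q.ofComp P).toExtensionHom x = 0 := by
    rw [← hx₀, ← Extension.H1Cotangent.map_comp_apply]
    exact congr($(Extension.H1Cotangent.map_eq _ _) x₀)
  obtain ⟨y, hy⟩ := (Generators.Cotangent.exact Q P x.1).1 (congrArg Subtype.val hx)
  have key : ∀ z, (Extension.CotangentSpace.map (Q.toComp P).toExtensionHom).liftBaseChange T
      (P.toExtension.cotangentComplex.baseChange T z) = (Q.comp P).toExtension.cotangentComplex
        ((Extension.Cotangent.map (Q.toComp P).toExtensionHom).liftBaseChange T z) := fun z => by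
    induction z using TensorProduct.induction_on with
    | zero => simp only [map_zero]
    | add a b ha hb => simp only [map_add, ha, hb]
    | tmul t w =>
      rw [LinearMap.baseChange_tmul, LinearMap.liftBaseChange_tmul, LinearMap.liftBaseChange_tmul,
        map_smul, Extension.CotangentSpace.map_cotangentComplex]
  have hy0 : y = 0 := by
    apply hdT
    apply Generators.CotangentSpace.map_toComp_injective Q P
    rw [map_zero, map_zero, key, hy]
    exact x.2
  have hx0 : x = 0 := Subtype.ext (by rw [← hy, hy0, map_zero]; rfl)
  let g' : (Q.comp P).toExtension.Hom W.toExtension := ((Q.comp P).defaultHom W).toExtensionHom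
  have : Extension.H1Cotangent.map (g'.comp g) x₀ = x₀ := by
    rw [Extension.H1Cotangent.map_eq (g'.comp g) (.id _), Extension.H1Cotangent.map_id]
    rfl
  rw [← this, Extension.H1Cotangent.map_comp_apply]
  exact (congrArg (Extension.H1Cotangent.map g') hx0).trans (map_zero _)

theorem bijective_kaehler_base [Subsingleton Ω[A'⁄A]] :
    Function.Bijective (KaehlerDifferential.map A A' T T) := by
  refine ⟨(injective_iff_map_eq_zero _).2 fun x hx => ?_,
    KaehlerDifferential.map_surjective A A' T⟩
  obtain ⟨z, rfl⟩ := (KaehlerDifferential.exact_mapBaseChange_map A A' T x).1 hx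
  have : ∀ w : T ⊗[A'] Ω[A'⁄A], w = 0 := fun w => by
    induction w using TensorProduct.induction_on with
    | zero => rfl
    | tmul t u => rw [Subsingleton.elim u 0, tmul_zero]
    | add a b ha hb => rw [ha, hb, add_zero]
  rw [this z, map_zero]

end

/-- `bcMapSelf` for a square whose horizontal maps are ind-étale local maps. -/
theorem quasiIso_bcMapSelf_of_union (A B A' B' : Type u) [CommRing A] [CommRing B] [CommRing A']
    [CommRing B'] [Algebra A B] [Algebra A A'] [Algebra B B'] [Algebra A' B'] [Algebra A B']
    [IsScalarTower A A' B'] [IsScalarTower A B B'] [Module.Flat B B']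
    (hA : ∀ s : Finset A', ∃ i : Stage A A', ∀ x ∈ s, x ∈ i.θ.range)
    (hB : ∀ s : Finset B', ∃ i : Stage B B', ∀ x ∈ s, x ∈ i.θ.range) :
    QuasiIso (NLCx.bcMapSelf A B A' B') := by
  haveI := subsingleton_kaehler hA
  haveI := subsingleton_h1Cotangent hA
  haveI := subsingleton_kaehler hB
  haveI := subsingleton_h1Cotangent hB
  refine quasiIso_bcMapSelf A B A' B' ?_ ?_
  · have h : (Algebra.H1Cotangent.map A A' B B').liftBaseChange B' =
        (Algebra.H1Cotangent.map A A' B' B') ∘ₗ
          (Algebra.H1Cotangent.map A A B B').liftBaseChange B' := by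
      refine TensorProduct.AlgebraTensorModule.ext fun t x => ?_
      simp only [LinearMap.comp_apply, LinearMap.liftBaseChange_tmul, map_smul]
      congr 1
      simp only [Algebra.H1Cotangent.map]
      rw [← Extension.H1Cotangent.map_comp_apply]
      exact congr($(Extension.H1Cotangent.map_eq _ _) x)
    rw [h, LinearMap.coe_comp]
    exact (bijective_map_base A A' B').comp (h1bc_of_union hB A)
  · have h : NLCx.bcH0Map A B A' B' = (KaehlerDifferential.map A A' B' B') ∘ₗ
        KaehlerDifferential.mapBaseChange A B B' := by
      refine TensorProduct.AlgebraTensorModule.ext fun t x => ?_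
      simp only [LinearMap.comp_apply, NLCx.bcH0Map, LinearMap.liftBaseChange_tmul,
        KaehlerDifferential.mapBaseChange_tmul, map_smul]
      congr 1
      have hx : x ∈ Submodule.span B (Set.range (KaehlerDifferential.D A B)) := by
        rw [KaehlerDifferential.span_range_derivation]; trivial
      induction hx using Submodule.span_induction with
      | mem y hy => obtain ⟨b, rfl⟩ := hy; simp
      | zero => simp
      | add a b _ _ ha hb => simp only [map_add, ha, hb]
      | smul r a _ ha =>
        simp only [map_smul, ← algebraMap_smul B' r (KaehlerDifferential.map A A B B' a), ha]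
        rw [algebraMap_smul]
    rw [h, LinearMap.coe_comp]
    refine (bijective_kaehler_base A A' B').comp ⟨(injective_iff_map_eq_zero _).2 fun x hx => ?_,
      fun y => (KaehlerDifferential.exact_mapBaseChange_map A B B' y).1 (Subsingleton.elim _ _)⟩
    obtain ⟨z, rfl⟩ := (Algebra.H1Cotangent.exact_δ_mapBaseChange A B B' x).1 hx
    rw [Subsingleton.elim z 0, map_zero]

end Groth.Agent.NL17
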