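import Groth.Prelude.Def_SheafNL

/-!
# The chain maps of naive cotangent complexes

Components, homotopies and homotopy equivalences of `NLCx.map` and `NLCx.bcMap`.
-/

set_option autoImplicit false
set_option linter.style.haveILetI false

universe u

open CategoryTheory CategoryTheory.Limits TensorProduct Algebra

attribute [local instance] HasDerivedCategory.standard

namespace Groth.Agent.NL17

section Double

variable {A : Type u} [CommRing A] {X₀ X₁ Y₀ Y₁ : ModuleCat.{u} A} (φ : X₀ ⟶ X₁) (ψ : Y₀ ⟶ Y₁)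

theorem rel₀ : (ComplexShape.up ℤ).Rel (-1) 0 := by simp

local notation "ℓ" => rel₀

theorem isIso_of_double {f : HomologicalComplex.double φ ℓ ⟶ HomologicalComplex.double ψ ℓ}
    (g₀ : X₀ ⟶ Y₀) (g₁ : X₁ ⟶ Y₁) [IsIso g₀] [IsIso g₁]
    (h₀ : f.f (-1) = (HomologicalComplex.doubleXIso₀ φ ℓ).hom ≫ g₀ ≫
      (HomologicalComplex.doubleXIso₀ ψ ℓ).inv)
    (h₁ : f.f 0 = (HomologicalComplex.doubleXIso₁ φ ℓ (by decide)).hom ≫ g₁ ≫
      (HomologicalComplex.doubleXIso₁ ψ ℓ (by decide)).inv) :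
    IsIso f := by
  haveI : ∀ k, IsIso (f.f k) := fun k => by
    by_cases hk : k = -1
    · subst hk; rw [h₀]; infer_instance
    · by_cases hk' : k = 0
      · subst hk'; rw [h₁]; infer_instance
      · exact ⟨0, (HomologicalComplex.isZero_double_X φ ℓ k hk hk').eq_of_src _ _,
          (HomologicalComplex.isZero_double_X ψ ℓ k hk hk').eq_of_src _ _⟩
  exact HomologicalComplex.Hom.isIso_of_components f

/-- A homotopy of maps between two-term complexes. -/
noncomputable def homotopyDouble {f g : HomologicalComplex.double φ ℓ ⟶ HomologicalComplex.double ψ ℓ}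
    (s : X₁ ⟶ Y₀)
    (h₀ : f.f (-1) - g.f (-1) = (HomologicalComplex.doubleXIso₀ φ ℓ).hom ≫ (φ ≫ s) ≫
      (HomologicalComplex.doubleXIso₀ ψ ℓ).inv)
    (h₁ : f.f 0 - g.f 0 = (HomologicalComplex.doubleXIso₁ φ ℓ (by decide)).hom ≫ (s ≫ ψ) ≫
      (HomologicalComplex.doubleXIso₁ ψ ℓ (by decide)).inv) :
    Homotopy f g := by
  refine Homotopy.equivSubZero.symm ((Homotopy.ofEq ?_).trans
    (Homotopy.nullHomotopy' fun i j _ => if h : i = 0 ∧ j = -1 then
      eqToHom (by rw [h.1]) ≫ (HomologicalComplex.doubleXIso₁ φ ℓ (by decide)).hom ≫ s ≫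
        (HomologicalComplex.doubleXIso₀ ψ ℓ).inv ≫ eqToHom (by rw [h.2]) else 0))
  refine HomologicalComplex.from_double_hom_ext ?_ ?_
  · rw [Homotopy.nullHomotopicMap'_f (k₂ := -2) (k₁ := -1) (k₀ := 0) (by simp) (by simp),
      HomologicalComplex.sub_f_apply, h₀, dif_pos ⟨rfl, rfl⟩, dif_neg (by simp),
      HomologicalComplex.double_d φ ℓ (by decide)]
    simp
  · rw [Homotopy.nullHomotopicMap'_f (k₂ := -1) (k₁ := 0) (k₀ := 1) (by simp) (by simp),
      HomologicalComplex.sub_f_apply, h₁, dif_neg (by simp), dif_pos ⟨rfl, rfl⟩,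
      HomologicalComplex.double_d ψ ℓ (by decide)]
    simp

/-- Maps with components determine the composite. -/
theorem comp_eq_double {Z₀ Z₁ : ModuleCat.{u} A} {ω : Z₀ ⟶ Z₁}
    {f : HomologicalComplex.double φ ℓ ⟶ HomologicalComplex.double ψ ℓ}
    {f' : HomologicalComplex.double ψ ℓ ⟶ HomologicalComplex.double ω ℓ}
    {F : HomologicalComplex.double φ ℓ ⟶ HomologicalComplex.double ω ℓ}
    {g₀ : X₀ ⟶ Y₀} {g₁ : X₁ ⟶ Y₁} {k₀ : Y₀ ⟶ Z₀} {k₁ : Y₁ ⟶ Z₁} {G₀ : X₀ ⟶ Z₀} {G₁ : X₁ ⟶ Z₁}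
    (h₀ : f.f (-1) = (HomologicalComplex.doubleXIso₀ φ ℓ).hom ≫ g₀ ≫
      (HomologicalComplex.doubleXIso₀ ψ ℓ).inv)
    (h₁ : f.f 0 = (HomologicalComplex.doubleXIso₁ φ ℓ (by decide)).hom ≫ g₁ ≫
      (HomologicalComplex.doubleXIso₁ ψ ℓ (by decide)).inv)
    (h₀' : f'.f (-1) = (HomologicalComplex.doubleXIso₀ ψ ℓ).hom ≫ k₀ ≫
      (HomologicalComplex.doubleXIso₀ ω ℓ).inv)
    (h₁' : f'.f 0 = (HomologicalComplex.doubleXIso₁ ψ ℓ (by decide)).hom ≫ k₁ ≫
      (HomologicalComplex.doubleXIso₁ ω ℓ (by decide)).inv)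
    (H₀ : F.f (-1) = (HomologicalComplex.doubleXIso₀ φ ℓ).hom ≫ G₀ ≫
      (HomologicalComplex.doubleXIso₀ ω ℓ).inv)
    (H₁ : F.f 0 = (HomologicalComplex.doubleXIso₁ φ ℓ (by decide)).hom ≫ G₁ ≫
      (HomologicalComplex.doubleXIso₁ ω ℓ (by decide)).inv)
    (e₀ : G₀ = g₀ ≫ k₀) (e₁ : G₁ = g₁ ≫ k₁) : F = f ≫ f' := by
  refine HomologicalComplex.from_double_hom_ext ?_ ?_
  · rw [HomologicalComplex.comp_f, H₀, h₀, h₀', e₀]; simp
  · rw [HomologicalComplex.comp_f, H₁, h₁, h₁', e₁]; simp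

theorem isIso_ofHom {M N : Type u} [AddCommGroup M] [AddCommGroup N] [Module A M] [Module A N]
    (g : M →ₗ[A] N) (h : Function.Bijective g) : IsIso (ModuleCat.ofHom g) :=
  (ConcreteCategory.isIso_iff_bijective _).2 h

end Double

section SameTop

variable {R S : Type u} [CommRing R] [CommRing S] [Algebra R S]
  {R' : Type u} [CommRing R'] [Algebra R' S] [Algebra R R'] [IsScalarTower R R' S]
  {P : Extension.{u} R S} {P' : Extension.{u} R' S}

theorem map_f₀ (f : P.Hom P') :
    (NLCx.map f).f (-1) = (HomologicalComplex.doubleXIso₀ _ _).hom ≫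
      ModuleCat.ofHom (Extension.Cotangent.map f) ≫ (HomologicalComplex.doubleXIso₀ _ _).inv := by
  simp [NLCx.map]
  rfl

theorem map_f₁ (f : P.Hom P') :
    (NLCx.map f).f 0 = (HomologicalComplex.doubleXIso₁ _ _ (by decide)).hom ≫
      ModuleCat.ofHom (Extension.CotangentSpace.map f) ≫
      (HomologicalComplex.doubleXIso₁ _ _ (by decide)).inv := by
  simp [NLCx.map]
  rfl

theorem isIso_map (f : P.Hom P') (h₀ : Function.Bijective (Extension.Cotangent.map f))
    (h₁ : Function.Bijective (Extension.CotangentSpace.map f)) : IsIso (NLCx.map f) :=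
  haveI := isIso_ofHom _ h₀
  haveI := isIso_ofHom _ h₁
  isIso_of_double _ _ (ModuleCat.ofHom (Extension.Cotangent.map f))
    (ModuleCat.ofHom (Extension.CotangentSpace.map f)) (map_f₀ f) (map_f₁ f)

end SameTop

section SelfBase

variable {R S : Type u} [CommRing R] [CommRing S] [Algebra R S] {P P' P'' : Extension.{u} R S}

theorem map_id : NLCx.map (.id P) = 𝟙 (NLCx.cx P) := by
  refine HomologicalComplex.from_double_hom_ext ?_ ?_
  · rw [map_f₀, Extension.Cotangent.map_id]; simp; rfl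
  · rw [map_f₁, Extension.CotangentSpace.map_id]; simp; rfl

theorem map_comp (f : P.Hom P') (g : P'.Hom P'') :
    NLCx.map (g.comp f) = NLCx.map f ≫ NLCx.map g :=
  comp_eq_double _ _ (map_f₀ f) (map_f₁ f) (map_f₀ g) (map_f₁ g) (map_f₀ _) (map_f₁ _)
    (by ext x; simp [Extension.Cotangent.map_comp])
    (by ext x; simp [Extension.CotangentSpace.map_comp])

/-- Homs of extensions induce homotopic chain maps. -/
noncomputable def mapHomotopy (f g : P.Hom P') : Homotopy (NLCx.map f) (NLCx.map g) :=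
  homotopyDouble _ _ (ModuleCat.ofHom (f.sub g))
    (by rw [map_f₀, map_f₀, ← Preadditive.comp_sub, ← Preadditive.sub_comp]
        congr 2
        exact ModuleCat.hom_ext (Extension.Cotangent.map_sub_map f g))
    (by rw [map_f₁, map_f₁, ← Preadditive.comp_sub, ← Preadditive.sub_comp]
        congr 2
        exact ModuleCat.hom_ext (Extension.CotangentSpace.map_sub_map f g))

/-- Two extensions mapping to each other have homotopy equivalent complexes. -/
noncomputable def mapEquiv (f : P.Hom P') (g : P'.Hom P) :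
    HomotopyEquiv (NLCx.cx P) (NLCx.cx P') where
  hom := NLCx.map f
  inv := NLCx.map g
  homotopyHomInvId := ((Homotopy.ofEq (map_comp f g).symm).trans (mapHomotopy _ _)).trans
    (Homotopy.ofEq map_id)
  homotopyInvHomId := ((Homotopy.ofEq (map_comp g f).symm).trans (mapHomotopy _ _)).trans
    (Homotopy.ofEq map_id)

end SelfBase

section BaseChange

variable {R S R' S' : Type u} [CommRing R] [CommRing S] [Algebra R S] [CommRing R'] [CommRing S']
  [Algebra R' S'] [Algebra R R'] [Algebra S S'] [Algebra R S'] [IsScalarTower R R' S']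
  [IsScalarTower R S S'] {P : Extension.{u} R S} {P' P'' : Extension.{u} R' S'}

/-- The component in degree `-1` of `bcMap`. -/
noncomputable abbrev cotF (f : P.Hom P') : S' ⊗[S] P.Cotangent →ₗ[S'] P'.Cotangent :=
  LinearMap.liftBaseChange S' (Extension.Cotangent.map f)

/-- The component in degree `0` of `bcMap`. -/
noncomputable abbrev spF (f : P.Hom P') : S' ⊗[S] P.CotangentSpace →ₗ[S'] P'.CotangentSpace :=
  LinearMap.liftBaseChange S' (Extension.CotangentSpace.map f)

omit [IsScalarTower R S S'] in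
theorem cotF_tmul (f : P.Hom P') (s : S') (x : P.Cotangent) :
    cotF f (s ⊗ₜ x) = s • Extension.Cotangent.map f x := LinearMap.liftBaseChange_tmul _ _ _ _

omit [IsScalarTower R S S'] in
theorem spF_comp (f : P.Hom P') :
    spF f ∘ₗ P.cotangentComplex.baseChange S' = P'.cotangentComplex ∘ₗ cotF f := by
  ext y
  simpa using (Extension.CotangentSpace.map_cotangentComplex f y)

omit [IsScalarTower R S S'] in
theorem bcMap_f₀ (f : P.Hom P') :
    (NLCx.bcMap f).f (-1) = (HomologicalComplex.doubleXIso₀ _ _).hom ≫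
      ModuleCat.ofHom (cotF f) ≫ (HomologicalComplex.doubleXIso₀ _ _).inv := by
  simp [NLCx.bcMap]
  rfl

omit [IsScalarTower R S S'] in
theorem bcMap_f₁ (f : P.Hom P') :
    (NLCx.bcMap f).f 0 = (HomologicalComplex.doubleXIso₁ _ _ (by decide)).hom ≫
      ModuleCat.ofHom (spF f) ≫
      (HomologicalComplex.doubleXIso₁ _ _ (by decide)).inv := by
  simp [NLCx.bcMap]
  rfl

theorem isIso_bcMap (f : P.Hom P') (h₀ : Function.Bijective (cotF f))
    (h₁ : Function.Bijective (spF f)) : IsIso (NLCx.bcMap f) :=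
  haveI := isIso_ofHom _ h₀
  haveI := isIso_ofHom _ h₁
  isIso_of_double _ _ (ModuleCat.ofHom (cotF f)) (ModuleCat.ofHom (spF f)) (bcMap_f₀ f) (bcMap_f₁ f)

theorem bcMap_comp (f : P.Hom P') (g : P'.Hom P'') :
    NLCx.bcMap (g.comp f) = NLCx.bcMap f ≫ NLCx.map g :=
  comp_eq_double _ _ (bcMap_f₀ f) (bcMap_f₁ f) (map_f₀ g) (map_f₁ g) (bcMap_f₀ _) (bcMap_f₁ _)
    (by ext x; simp [Extension.Cotangent.map_comp])
    (by ext x; simp [Extension.CotangentSpace.map_comp])

/-- Homs of extensions over a square induce homotopic chain maps. -/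
noncomputable def bcMapHomotopy (f g : P.Hom P') : Homotopy (NLCx.bcMap f) (NLCx.bcMap g) :=
  homotopyDouble _ _ (ModuleCat.ofHom (LinearMap.liftBaseChange S' (f.sub g)))
    (by rw [bcMap_f₀, bcMap_f₀, ← Preadditive.comp_sub, ← Preadditive.sub_comp]
        congr 2
        ext x
        simpa using congrArg Extension.Cotangent.val
          (LinearMap.congr_fun (Extension.Cotangent.map_sub_map f g) x))
    (by rw [bcMap_f₁, bcMap_f₁, ← Preadditive.comp_sub, ← Preadditive.sub_comp]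
        congr 2
        ext x
        simpa using LinearMap.congr_fun (Extension.CotangentSpace.map_sub_map f g) x)

/-- `bcMap h` is a homotopy equivalence if some `bcMap f` is an isomorphism and the targets of
`f` and `h` map to each other. -/
theorem exists_homotopyEquiv (f : P.Hom P') (hf : IsIso (NLCx.bcMap f)) (g : P'.Hom P'')
    (g' : P''.Hom P') (h : P.Hom P'') :
    ∃ e : HomotopyEquiv (NLCx.bcCx P S') (NLCx.cx P''), e.hom = NLCx.bcMap h :=
  let e₀ := (HomotopyEquiv.ofIso (asIso (NLCx.bcMap f))).trans (mapEquiv g g')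
  let H : Homotopy (NLCx.bcMap h) e₀.hom :=
    (bcMapHomotopy h (g.comp f)).trans (Homotopy.ofEq (bcMap_comp f g))
  ⟨{ hom := NLCx.bcMap h
     inv := e₀.inv
     homotopyHomInvId := (H.compRight e₀.inv).trans e₀.homotopyHomInvId
     homotopyInvHomId := (H.compLeft e₀.inv).trans e₀.homotopyInvHomId }, rfl⟩

theorem quasiIso_of_homotopyEquiv {h : P.Hom P''}
    (H : ∃ e : HomotopyEquiv (NLCx.bcCx P S') (NLCx.cx P''), e.hom = NLCx.bcMap h) :
    QuasiIso (NLCx.bcMap h) := by
  obtain ⟨e, he⟩ := H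
  rw [← he]
  infer_instance

end BaseChange

end Groth.Agent.NL17
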