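import Groth.Agent.KRIdeal.Descent
import Mathlib.RingTheory.LocalProperties.Projective
import Mathlib.RingTheory.Flat.Localization
import Mathlib.RingTheory.Flat.EquationalCriterion
import Mathlib.RingTheory.Ideal.Cotangent

/-!
# The conormal module of a Koszul regular ideal
-/

set_option autoImplicit false
set_option linter.style.haveILetI false

universe u

namespace Groth.Agent.NL17

variable {R : Type u} [CommRing R]

/-- The conormal module of a Koszul regular ideal is finite projective. -/
theorem finite_projective_cotangent {I : Ideal R} (hk : LCI.IsKoszulRegularIdeal I) :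
    Module.Finite (R ⧸ I) I.Cotangent ∧ Module.Projective (R ⧸ I) I.Cotangent := by
  classical
  let N := I.Cotangent
  haveI : Module.Finite R I := Module.Finite.iff_fg.2 (KRIdeal.isKRI_fg hk)
  haveI : Module.Finite R N := Module.Finite.of_surjective _ I.toCotangent_surjective
  haveI hfin : Module.Finite (R ⧸ I) N := Module.Finite.of_restrictScalars_finite R _ _
  refine ⟨hfin, ?_⟩
  let good : Set (R ⧸ I) := {t | Module.Free (Localization.Away t) (LocalizedModule.Away t N) ∧
    Module.Finite (Localization.Away t) (LocalizedModule.Away t N)}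
  have hspan : Ideal.span good = ⊤ := by
    by_contra hne
    obtain ⟨M, hM, hle⟩ := Ideal.exists_le_maximal _ hne
    let P : Ideal R := M.comap (Ideal.Quotient.mk I)
    haveI : P.IsPrime := inferInstance
    have hIP : I ≤ P := fun a ha => by
      show Ideal.Quotient.mk I a ∈ M
      rw [Ideal.Quotient.eq_zero_iff_mem.2 ha]; exact zero_mem _
    obtain ⟨h, hhP, r, f, hd⟩ := (KRIdeal.isKRI_iff I).1 hk P hIP
    let t := Ideal.Quotient.mk I h
    refine hhP (hle (Ideal.subset_span (show t ∈ good from ?_)))
    let c : Fin r → N := fun i => I.toCotangent ⟨f i, hd.mem i⟩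
    let ψ : (Fin r → R ⧸ I) →ₗ[R ⧸ I] N := Fintype.linearCombination (R ⧸ I) c
    have h1 : ∀ (b : R) (z : N), Ideal.Quotient.mk I b • z = b • z := fun b z => rfl
    have hsur : ∀ m : N, ∃ (k : ℕ) (v : Fin r → R ⧸ I), ψ v = t ^ k • m := by
      intro m
      obtain ⟨⟨y, hy⟩, rfl⟩ := I.toCotangent_surjective m
      have hy' := Ideal.mem_map_of_mem (algebraMap _ (Localization.Away h)) hy
      rw [hd.map_eq] at hy'
      obtain ⟨_, ⟨k, rfl⟩, hk⟩ :=
        (IsLocalization.algebraMap_mem_map_algebraMap_iff (Submonoid.powers h) _ _ _).1 hy'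
      obtain ⟨a, ha⟩ := (Ideal.mem_span_range_iff_exists_fun).1 hk
      refine ⟨k, fun i => Ideal.Quotient.mk I (a i), ?_⟩
      simp only [ψ, Fintype.linearCombination_apply, c, t, ← map_pow, h1, ← map_smul, ← map_sum]
      congr 1
      exact Subtype.ext (by simpa using ha)
    have hinj : ∀ v, ψ v = 0 → ∃ k : ℕ, t ^ k • v = 0 := by
      intro v hv
      choose a ha using fun i => Ideal.Quotient.mk_surjective (v i)
      have h4 : I.toCotangent (∑ i, a i • ⟨f i, hd.mem i⟩) = 0 := by
        rw [← hv, map_sum]
        simp only [ψ, Fintype.linearCombination_apply, c]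
        exact Finset.sum_congr rfl fun i _ => by rw [map_smul, ← h1, ha i]
      rw [Ideal.toCotangent_eq_zero] at h4
      simp only [Submodule.coe_smul, Submodule.coe_sum, smul_eq_mul] at h4
      have h5 := Ideal.mem_map_of_mem (algebraMap _ (Localization.Away h)) h4
      rw [Ideal.map_pow, hd.map_eq, Ideal.map_span, ← Set.range_comp] at h5
      simp only [map_sum, map_mul] at h5
      have hex := hd.ex
      rw [List.map_ofFn] at hex
      obtain ⟨z, hz, hzs⟩ := (Submodule.mem_ideal_smul_span_iff_exists_sum _ _ _).1
        (show _ ∈ Ideal.span (Set.range (algebraMap _ (Localization.Away h) ∘ f)) •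
          Submodule.span (Localization.Away h) (Set.range (algebraMap _ (Localization.Away h) ∘ f)) from
          (by rw [smul_eq_mul, ← sq]; exact h5))
      rw [Finsupp.sum_fintype _ _ (fun i => by simp)] at hzs
      have h6 : ∀ i, algebraMap _ (Localization.Away h) (a i) ∈
          I.map (algebraMap _ (Localization.Away h)) := fun i => by
        rw [hd.map_eq, Ideal.map_span, ← Set.range_comp]
        have := KRIdeal.coeff_mem_of_ex hex (a := fun i => algebraMap _ _ (a i) - z i) (by
          simp only [sub_mul, Finset.sum_sub_distrib, Function.comp_apply]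
          rw [sub_eq_zero, ← hzs]
          exact Finset.sum_congr rfl fun i _ => by simp) i
        simpa using Ideal.add_mem _ this (hz i)
      have h8 : ∀ i, ∃ m : ℕ, h ^ m * a i ∈ I := fun i => by
        obtain ⟨_, ⟨m, rfl⟩, hm⟩ :=
          (IsLocalization.algebraMap_mem_map_algebraMap_iff (Submonoid.powers h) _ _ _).1 (h6 i)
        exact ⟨m, hm⟩
      choose m hm using h8
      refine ⟨Finset.univ.sup m, funext fun i => ?_⟩
      show t ^ Finset.univ.sup m * v i = 0
      rw [← ha i]
      show Ideal.Quotient.mk I h ^ _ * _ = 0
      rw [← map_pow, ← map_mul, Ideal.Quotient.eq_zero_iff_mem]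
      obtain ⟨d, hd'⟩ := Nat.exists_eq_add_of_le (Finset.le_sup (f := m) (Finset.mem_univ i))
      rw [hd', pow_add, mul_comm (h ^ m i), mul_assoc]
      exact I.mul_mem_left _ (hm i)
    let ψt := LocalizedModule.map (Submonoid.powers t) ψ
    have hbij : Function.Bijective ψt := by
      refine ⟨(injective_iff_map_eq_zero _).2 fun w hw => ?_, fun w => ?_⟩
      · induction w using LocalizedModule.induction_on with
        | h v s =>
          rw [LocalizedModule.map_mk, ← LocalizedModule.zero_mk 1, LocalizedModule.mk_eq] at hw
          obtain ⟨⟨_, k, rfl⟩, hk⟩ := hw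
          simp only [one_smul, smul_zero, Submonoid.smul_def] at hk
          rw [← map_smul] at hk
          obtain ⟨k', hk'⟩ := hinj _ hk
          rw [← LocalizedModule.zero_mk 1, LocalizedModule.mk_eq]
          refine ⟨⟨t ^ k' * t ^ k, mul_mem (pow_mem (Submonoid.mem_powers t) k') (pow_mem (Submonoid.mem_powers t) k)⟩, ?_⟩
          simp only [one_smul, smul_zero, Submonoid.smul_def]
          rw [mul_smul]; exact hk'
      · induction w using LocalizedModule.induction_on with
        | h m s =>
          obtain ⟨k, v, hv⟩ := hsur m
          refine ⟨LocalizedModule.mk v (⟨t ^ k, pow_mem (Submonoid.mem_powers t) k⟩ * s), ?_⟩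
          rw [LocalizedModule.map_mk, hv]
          exact LocalizedModule.mk_cancel_common_left ⟨t ^ k, pow_mem (Submonoid.mem_powers t) k⟩ s m
    haveI : Module.Free (Localization.Away t) (LocalizedModule.Away t (Fin r → R ⧸ I)) :=
      Module.free_of_isLocalizedModule (Submonoid.powers t) (LocalizedModule.mkLinearMap (Submonoid.powers t) (Fin r → R ⧸ I))
    haveI : Module.Finite (Localization.Away t) (LocalizedModule.Away t (Fin r → R ⧸ I)) :=
      Module.Finite.of_isLocalizedModule (Submonoid.powers t) (LocalizedModule.mkLinearMap (Submonoid.powers t) (Fin r → R ⧸ I))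
    let e := LinearEquiv.ofBijective ψt hbij
    exact ⟨Module.Free.of_equiv e, Module.Finite.equiv e⟩
  haveI : Module.FinitePresentation (R ⧸ I) N :=
    Module.FinitePresentation.of_localizationSpan good hspan fun t => by
      haveI := t.2.1; haveI := t.2.2
      haveI : Module.Projective (Localization.Away t.1) (LocalizedModule.Away t.1 N) := Module.Projective.of_free
      exact Module.finitePresentation_of_projective _ _
  haveI : Module.Flat (R ⧸ I) N := Module.flat_of_localized_span (R ⧸ I) N good hspan fun t => by
    haveI := t.2.1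
    haveI : Module.Projective (Localization.Away t.1) (LocalizedModule.Away t.1 N) := Module.Projective.of_free
    haveI : Module.Flat (Localization.Away t.1) (LocalizedModule.Away t.1 N) := Module.Flat.of_projective
    exact Module.Flat.trans (R ⧸ I) (Localization.Away t.1) _
  exact Module.Flat.projective_of_finitePresentation

end Groth.Agent.NL17
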