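import Groth.Agent.NL17.Basic
import Groth.Agent.DRingPC.LBCProps
import Groth.Agent.DRingPC.BaseChange
import Groth.Agent.DRingPC.TorDim
import Groth.Agent.DRingPC.TorAmpOps
import Mathlib.Algebra.Homology.DerivedCategory.ShortExact

/-!
# Derived base change of two-term complexes
-/

set_option autoImplicit false
set_option linter.style.haveILetI false

universe u

open CategoryTheory CategoryTheory.Limits TensorProduct

attribute [local instance] HasDerivedCategory.standard

namespace Groth.Agent.NL17

open Groth.Agent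

section Flat

variable {A : Type u} [CommRing A] {M F : ModuleCat.{u} A} (φ : M ⟶ F)

local notation "ℓ" => rel₀

/-- A single module of tor amplitude `[0, 1]` is flat. -/
theorem flat_of_amplitude (M : ModuleCat.{u} A)
    (h : DRing.HasTorAmplitudeIn A 0 1 ((DerivedCategory.singleFunctor _ 0).obj M)) :
    Module.Flat A M := by
  refine DRingPC.flat_of_td_zero ((DRingPC.td_iff_amplitude 0 M).2 ?_)
  obtain ⟨P, hP, hz, ⟨e⟩⟩ :=
    DRingPC.exists_projective_rep A ((DerivedCategory.singleFunctor (ModuleCat.{u} A) 0).obj M) 0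
  rw [DRingPC.torAmp_iff hP 0 hz e] at h ⊢
  intro N i hi
  rcases hi with hi | hi
  · exact h N i (Or.inl (by simpa using hi))
  · rw [HomologicalComplex.exactAt_iff]
    exact ShortComplex.exact_of_isZero_X₂ _
      (Functor.map_isZero ((MonoidalCategory.tensoringLeft (ModuleCat.{u} A)).obj N) (hz i hi))

/-- In a two-term complex of amplitude `[-1, 0]` with flat `0`-th term, the first term is flat. -/
theorem flat_of_double (hF : Module.Flat A F)
    (h : DRing.HasTorAmplitudeIn A (-1) 0
      (DRing.toD (HomologicalComplex.double φ ℓ))) : Module.Flat A M := by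
  let D := HomologicalComplex.double φ ℓ
  let S₁ := (HomologicalComplex.single (ModuleCat.{u} A) (ComplexShape.up ℤ) 0).obj F
  let S₃ := (HomologicalComplex.single (ModuleCat.{u} A) (ComplexShape.up ℤ) (-1)).obj M
  let i : S₁ ⟶ D := HomologicalComplex.mkHomFromSingle
    ((HomologicalComplex.doubleXIso₁ φ ℓ (by decide)).inv) (fun j hj =>
      (HomologicalComplex.isZero_double_X φ ℓ j (by simp at hj; omega) (by simp at hj; omega)).eq_of_tgt _ _)
  let p : D ⟶ S₃ := HomologicalComplex.mkHomToSingle
    ((HomologicalComplex.doubleXIso₀ φ ℓ).hom) (fun j hj =>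
      (HomologicalComplex.isZero_double_X φ ℓ j (by simp at hj; omega) (by simp at hj; omega)).eq_of_src _ _)
  have w : i ≫ p = 0 := by
    refine HomologicalComplex.hom_ext _ _ fun k => ?_
    by_cases hk : k = 0
    · subst hk
      exact (HomologicalComplex.isZero_single_obj_X (ComplexShape.up ℤ) (-1 : ℤ) M 0
        (by decide)).eq_of_tgt _ _
    · exact (HomologicalComplex.isZero_single_obj_X _ _ _ _ hk).eq_of_src _ _
  let T : ShortComplex (DRing.Cx A) := ShortComplex.mk i p w
  have hT : T.ShortExact := by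
    refine HomologicalComplex.shortExact_of_degreewise_shortExact _ fun k => ?_
    by_cases hk : k = 0
    · subst hk
      haveI : IsIso (i.f 0) := by
        rw [HomologicalComplex.mkHomFromSingle_f]; exact inferInstance
      have hz : IsZero (S₃.X 0) := HomologicalComplex.isZero_single_obj_X _ _ _ _ (by decide)
      obtain ⟨r, hr₁, hr₂⟩ : ∃ r : D.X 0 ⟶ S₁.X 0, i.f 0 ≫ r = 𝟙 _ ∧ r ≫ i.f 0 = 𝟙 _ :=
        ⟨inv (i.f 0), IsIso.hom_inv_id _, IsIso.inv_hom_id _⟩
      exact ShortComplex.Splitting.shortExact
        { r := r, s := 0, f_r := hr₁,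
          s_g := hz.eq_of_src _ _,
          id := by rw [comp_zero, add_zero]; exact hr₂ }
    · by_cases hk' : k = -1
      · subst hk'
        haveI : IsIso (p.f (-1)) := by
          rw [HomologicalComplex.mkHomToSingle_f]; exact inferInstance
        have hz : IsZero (S₁.X (-1)) := HomologicalComplex.isZero_single_obj_X _ _ _ _ (by decide)
        obtain ⟨r, hr₁, hr₂⟩ : ∃ r : S₃.X (-1) ⟶ D.X (-1), p.f (-1) ≫ r = 𝟙 _ ∧ r ≫ p.f (-1) = 𝟙 _ :=
          ⟨inv (p.f (-1)), IsIso.hom_inv_id _, IsIso.inv_hom_id _⟩
        exact ShortComplex.Splitting.shortExact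
          { r := 0, s := r, f_r := hz.eq_of_src _ _,
            s_g := hr₂,
            id := by rw [zero_comp, zero_add]; exact hr₁ }
      · have h1 : IsZero (S₁.X k) := HomologicalComplex.isZero_single_obj_X _ _ _ _ hk
        have h3 : IsZero (S₃.X k) := HomologicalComplex.isZero_single_obj_X _ _ _ _ hk'
        have h2 : IsZero (D.X k) := HomologicalComplex.isZero_double_X φ ℓ k hk' hk
        exact ShortComplex.Splitting.shortExact
          { r := 0, s := 0, f_r := h1.eq_of_src _ _, s_g := h3.eq_of_src _ _,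
            id := h2.eq_of_src _ _ }
  have h₁ : DRing.HasTorAmplitudeIn A (-1 + 1) (0 + 1)
      (DerivedCategory.triangleOfSES hT).obj₁ :=
    ⟨S₁, fun j hj => HomologicalComplex.isZero_single_obj_X _ _ _ _ (by lia), fun j => by
      by_cases hj : j = 0
      · subst hj
        exact (DRingPC.FL A).prop_of_iso (HomologicalComplex.singleObjXSelf _ 0 F).symm hF
      · exact (DRingPC.FL A).prop_of_isZero (HomologicalComplex.isZero_single_obj_X _ _ _ _ hj),
      ⟨Iso.refl _⟩⟩
  have h₃ : DRing.HasTorAmplitudeIn A (-1) 0 (DerivedCategory.Q.obj S₃) :=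
    DRingPC.torAmp_triangle₃ (DerivedCategory.triangleOfSES_distinguished hT) h₁ h
  obtain ⟨E, hz, hE, ⟨e⟩⟩ :=
    DRingPC.torAmp_shift h₃ (-1) 0 1 (by decide) (by decide)
  exact flat_of_amplitude M ⟨E, hz, hE, ⟨e ≪≫
    (shiftFunctor (Dual.D A) (-1 : ℤ)).mapIso ((DerivedCategory.singleFunctorIsoCompQ _ (-1)).app M).symm ≪≫
    (((DerivedCategory.singleFunctors (ModuleCat.{u} A)).shiftIso (-1) 0 (-1) (by simp)).app M)⟩⟩

end Flat

section Ext

variable {S S' : Type u} [CommRing S] [CommRing S'] [Algebra S S']
  {M F : ModuleCat.{u} S} (φ : M ⟶ F)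

local notation "ℓ" => rel₀

/-- Extension of scalars of a two-term complex. -/
theorem nonempty_ext_double :
    Nonempty ((LBC.ext (algebraMap S S')).obj (HomologicalComplex.double φ ℓ) ≅
      HomologicalComplex.double (ModuleCat.ofHom (φ.hom.baseChange S')) ℓ) := by
  let eM := DRingPC.extendEquiv S S' M
  let eF := DRingPC.extendEquiv S S' F
  let Φ := ModuleCat.extendScalars.{u, u, u} (algebraMap S S')
  have hw : eM.hom ≫ Φ.map φ = ModuleCat.ofHom (φ.hom.baseChange S') ≫ eF.hom := by
    refine ModuleCat.hom_ext (LinearMap.ext fun x => ?_)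
    induction x using TensorProduct.induction_on with
    | zero => rw [map_zero, map_zero]
    | add a b ha hb => rw [map_add, map_add, ha, hb]
    | tmul b m => rfl
  let f : HomologicalComplex.double (ModuleCat.ofHom (φ.hom.baseChange S')) ℓ ⟶
      (LBC.ext (algebraMap S S')).obj (HomologicalComplex.double φ ℓ) :=
    HomologicalComplex.mkHomFromDouble _ (by decide)
      (eM.hom ≫ Φ.map (HomologicalComplex.doubleXIso₀ φ ℓ).inv)
      (eF.hom ≫ Φ.map (HomologicalComplex.doubleXIso₁ φ ℓ (by decide)).inv)
      (by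
        rw [Functor.mapHomologicalComplex_obj_d, HomologicalComplex.double_d φ ℓ (by decide),
          Category.assoc]
        erw [← Φ.map_comp]
        rw [Iso.inv_hom_id_assoc, Φ.map_comp]
        erw [← Category.assoc, hw, Category.assoc])
      (fun k hk => (Functor.map_isZero (ModuleCat.extendScalars.{u, u, u} (algebraMap S S'))
        (HomologicalComplex.isZero_double_X φ ℓ k
        (by simp at hk; omega) (by simp at hk; omega))).eq_of_tgt _ _)
  haveI : ∀ k, IsIso (f.f k) := fun k => by
    by_cases hk : k = -1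
    · subst hk; simp only [f, HomologicalComplex.mkHomFromDouble_f₀]; exact (HomologicalComplex.doubleXIso₀ _ ℓ ≪≫ eM ≪≫ Φ.mapIso (HomologicalComplex.doubleXIso₀ φ ℓ).symm).isIso_hom
    · by_cases hk' : k = 0
      · subst hk'; simp only [f, HomologicalComplex.mkHomFromDouble_f₁]; exact (HomologicalComplex.doubleXIso₁ _ ℓ (by decide) ≪≫ eF ≪≫ Φ.mapIso (HomologicalComplex.doubleXIso₁ φ ℓ (by decide)).symm).isIso_hom
      · exact ⟨0, (HomologicalComplex.isZero_double_X _ ℓ k hk hk').eq_of_src _ _,
          (Functor.map_isZero Φ (HomologicalComplex.isZero_double_X φ ℓ k hk hk')).eq_of_src _ _⟩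
  haveI := HomologicalComplex.Hom.isIso_of_components f
  exact ⟨(asIso f).symm⟩

/-- Derived base change of a two-term complex with flat zeroth term. -/
theorem nonempty_LBaseChange_double [DRing.HasLBaseChange (algebraMap S S')] (hF : Module.Flat S F)
    (h : DRing.HasTorAmplitudeIn S (-1) 0 (DRing.toD (HomologicalComplex.double φ ℓ))) :
    Nonempty ((DRing.LBaseChange (algebraMap S S')).obj (DRing.toD (HomologicalComplex.double φ ℓ)) ≅
      DRing.toD (HomologicalComplex.double (ModuleCat.ofHom (φ.hom.baseChange S')) ℓ)) := by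
  have hM := flat_of_double φ hF h
  have hK : DRing.IsKFlat S (HomologicalComplex.double φ ℓ) :=
    KFlat.isKFlat_of_boundedAbove 0 (fun i hi =>
      HomologicalComplex.isZero_double_X φ ℓ i (by omega) (by omega)) fun i => by
      by_cases hi : i = -1
      · subst hi; exact (DRingPC.FL S).prop_of_iso (HomologicalComplex.doubleXIso₀ φ ℓ).symm hM
      · by_cases hi' : i = 0
        · subst hi'
          exact (DRingPC.FL S).prop_of_iso (HomologicalComplex.doubleXIso₁ φ ℓ (by decide)).symm hF
        · exact (DRingPC.FL S).prop_of_isZero (HomologicalComplex.isZero_double_X φ ℓ i hi hi')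
  obtain ⟨e⟩ := nonempty_ext_double (S' := S') φ
  exact ⟨DRingPC.lbcValueIso _ _ hK ≪≫ DerivedCategory.Q.mapIso e⟩

end Ext

end Groth.Agent.NL17
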