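import Groth.Agent.NL17.Basic
import Groth.Agent.HenselLib.LiftEtalePair
import Mathlib.RingTheory.Etale.Kaehler
import Mathlib.RingTheory.Kaehler.JacobiZariski

/-!
# `H¹` of the naive cotangent complex along essentially étale maps
-/

set_option autoImplicit false
set_option linter.style.haveILetI false

universe u

open TensorProduct Algebra MvPolynomial

namespace Groth.Agent.NL17

/-- `T ⊗ H¹(B/A) → H¹(T/A)` is bijective. -/
def H1BC (A B T : Type u) [CommRing A] [CommRing B] [CommRing T] [Algebra A B] [Algebra A T]
    [Algebra B T] [IsScalarTower A B T] : Prop :=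
  Function.Bijective ((Algebra.H1Cotangent.map A A B T).liftBaseChange T)

section

variable (A B C T : Type u) [CommRing A] [CommRing B] [CommRing C] [CommRing T] [Algebra A B]
  [Algebra A C] [Algebra A T] [Algebra B C] [Algebra B T] [Algebra C T] [IsScalarTower A B C]
  [IsScalarTower A B T] [IsScalarTower A C T] [IsScalarTower B C T]

theorem h1map_map (x : Algebra.H1Cotangent A B) :
    Algebra.H1Cotangent.map A A C T (Algebra.H1Cotangent.map A A B C x) =
      Algebra.H1Cotangent.map A A B T x := by
  simp only [Algebra.H1Cotangent.map]
  rw [← Algebra.Extension.H1Cotangent.map_comp_apply]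
  exact congr($(Algebra.Extension.H1Cotangent.map_eq _ _) x)

variable {A B C T}

theorem H1BC.trans (h₁ : H1BC A B C) (h₂ : H1BC A C T) : H1BC A B T := by
  let e : T ⊗[B] Algebra.H1Cotangent A B ≃ₗ[T] Algebra.H1Cotangent A T :=
    (AlgebraTensorModule.cancelBaseChange B C T T _).symm ≪≫ₗ
      AlgebraTensorModule.congr (LinearEquiv.refl T T) (LinearEquiv.ofBijective _ h₁) ≪≫ₗ
      LinearEquiv.ofBijective _ h₂
  suffices (Algebra.H1Cotangent.map A A B T).liftBaseChange T = e.toLinearMap from
    (congrArg (fun f : _ →ₗ[T] _ => Function.Bijective f) this).mpr e.bijective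
  refine TensorProduct.AlgebraTensorModule.ext fun t x => ?_
  simp only [e, LinearEquiv.coe_coe, LinearEquiv.trans_apply,
    AlgebraTensorModule.cancelBaseChange_symm_tmul, AlgebraTensorModule.congr_tmul,
    LinearEquiv.refl_apply, LinearEquiv.ofBijective_apply, LinearMap.liftBaseChange_tmul, one_smul,
    h1map_map]

end

theorem H1BC.of_isLocalization (A B T : Type u) [CommRing A] [CommRing B] [CommRing T] [Algebra A B]
    [Algebra A T] [Algebra B T] [IsScalarTower A B T] (M : Submonoid B) [IsLocalization M T] :
    H1BC A B T := by
  have h := (Algebra.tensorH1CotangentOfIsLocalization A T M).bijective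
  rw [H1BC, ← Algebra.tensorH1CotangentOfIsLocalization_toLinearMap A T M]
  exact h

/-- Étale algebras. -/
theorem H1BC.of_etale (A B C : Type u) [CommRing A] [CommRing B] [CommRing C] [Algebra A B]
    [Algebra A C] [Algebra B C] [IsScalarTower A B C] [Algebra.Etale B C] : H1BC A B C := by
  let P : Extension A B := (Generators.self A B).toExtension
  let I := P.ker
  let eB : (P.Ring ⧸ I) ≃+* B := RingHom.quotientKerEquivOfSurjective P.algebraMap_surjective
  letI : Algebra P.Ring C := ((algebraMap B C).comp (algebraMap P.Ring B)).toAlgebra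
  letI : Algebra (P.Ring ⧸ I) C := ((algebraMap B C).comp eB.toRingHom).toAlgebra
  haveI : IsScalarTower P.Ring (P.Ring ⧸ I) C := .of_algebraMap_eq fun p => rfl
  haveI : Algebra.Etale (P.Ring ⧸ I) C := by
    rw [← RingHom.etale_algebraMap, RingHom.algebraMap_toAlgebra]
    exact RingHom.Etale.respectsIso.2 _ eB (RingHom.etale_algebraMap.2 inferInstance)
  obtain ⟨C', _, _, π, _, hπ, hker⟩ := Groth.Agent.HenselLib.exists_etale_lift_quotient (A := P.Ring) I C
  letI : Algebra C' C := π.toRingHom.toAlgebra
  letI : Algebra A C' := ((algebraMap P.Ring C').comp (algebraMap A P.Ring)).toAlgebra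
  haveI : IsScalarTower A P.Ring C' := .of_algebraMap_eq' rfl
  haveI : IsScalarTower A C' C := .of_algebraMap_eq fun a => by
    show algebraMap A C a = π (algebraMap P.Ring C' (algebraMap A P.Ring a))
    rw [π.commutes, IsScalarTower.algebraMap_apply A B C,
      IsScalarTower.algebraMap_apply A P.Ring B]
    rfl
  let Q : Extension.{u} A C :=
    { Ring := C', σ := Function.surjInv hπ, algebraMap_σ := Function.surjInv_eq hπ }
  let f : P.Hom Q :=
    { toRingHom := algebraMap P.Ring C'
      toRingHom_algebraMap := fun a => rfl
      algebraMap_toRingHom := fun p => π.commutes p }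
  letI algQ : Algebra P.Ring Q.Ring := (inferInstance : Algebra P.Ring C')
  haveI : Module.Flat P.Ring C' := inferInstance
  have hH : Function.Bijective ((f.mapKer (alg := algQ) rfl).liftBaseChange Q.Ring) := by
    let m := (f.mapKer (alg := algQ) rfl)
    constructor
    · have key : ∀ z : C' ⊗[P.Ring] I, ((m.liftBaseChange C' z : Q.ker) : C') =
          TensorProduct.AlgebraTensorModule.rid P.Ring C' C' (I.subtype.lTensor C' z) := fun z => by
        induction z using TensorProduct.induction_on with
        | zero => simp only [map_zero]; rfl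
        | add a b ha hb => simp only [map_add, ← ha, ← hb]; rfl
        | tmul c a =>
          rw [LinearMap.liftBaseChange_tmul, LinearMap.lTensor_tmul,
            TensorProduct.AlgebraTensorModule.rid_tmul, Algebra.smul_def, mul_comm]
          rfl
      intro a b hab
      apply Module.Flat.lTensor_preserves_injective_linearMap (M := C') I.subtype Subtype.val_injective
      apply (TensorProduct.AlgebraTensorModule.rid P.Ring C' C').injective
      exact (key a).symm.trans ((congrArg Subtype.val hab).trans (key b))
    · rintro ⟨x, hx⟩
      have hx' : x ∈ I.map (algebraMap P.Ring C') := hker x hx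
      suffices ∃ w, ((m.liftBaseChange C' w : Q.ker) : C') = x from
        this.imp fun w hw => Subtype.ext hw
      clear hx
      induction hx' using Submodule.span_induction with
      | mem a ha =>
        obtain ⟨a, ha', rfl⟩ := ha
        exact ⟨1 ⊗ₜ ⟨a, ha'⟩, by rw [LinearMap.liftBaseChange_tmul, one_smul]; rfl⟩
      | zero => exact ⟨0, by rw [map_zero]; rfl⟩
      | add a b _ _ hia hib =>
        obtain ⟨v, rfl⟩ := hia
        obtain ⟨w, rfl⟩ := hib
        exact ⟨v + w, by rw [map_add]; rfl⟩
      | smul c a _ hia =>
        obtain ⟨v, rfl⟩ := hia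
        exact ⟨c • v, by rw [map_smul]; rfl⟩
  have h1 := (Extension.tensorH1CotangentOfFormallyEtale f (alg := algQ) rfl
    (RingHom.formallyEtale_algebraMap.2 inferInstance) hH).bijective
  let g : (Generators.self A C).toExtension.Hom Q := Q.defaultHom
  haveI : FormallySmooth A (Generators.self A C).toExtension.Ring :=
    inferInstanceAs (FormallySmooth A (Generators.self A C).Ring)
  haveI : FormallySmooth A P.Ring := inferInstanceAs (FormallySmooth A (Generators.self A B).Ring)
  haveI : FormallySmooth A Q.Ring := FormallySmooth.comp A P.Ring C'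
  have hg : Function.Bijective (Extension.H1Cotangent.map g) := by
    rw [← Extension.H1Cotangent.equivOfFormallySmooth_toLinearMap g]
    exact LinearEquiv.bijective _
  have e : (Extension.H1Cotangent.map f).liftBaseChange C =
      (Extension.H1Cotangent.map g) ∘ₗ (Algebra.H1Cotangent.map A A B C).liftBaseChange C := by
    refine TensorProduct.AlgebraTensorModule.ext fun c x => ?_
    simp only [LinearMap.comp_apply, LinearMap.liftBaseChange_tmul, map_smul]
    congr 1
    simp only [Algebra.H1Cotangent.map]
    rw [← Extension.H1Cotangent.map_comp_apply]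
    exact congr($(Extension.H1Cotangent.map_eq _ _) x)
  have h2 : Function.Bijective ((Extension.H1Cotangent.map g) ∘
      ((Algebra.H1Cotangent.map A A B C).liftBaseChange C)) := by
    rw [← LinearMap.coe_comp, ← e]
    exact h1
  exact (Function.Bijective.of_comp_iff' hg _).1 h2

/-- Localisations of étale algebras. -/
theorem H1BC.of_etale_atPrime (A B C : Type u) [CommRing A] [CommRing B] [CommRing C] [Algebra A B]
    [Algebra A C] [Algebra B C] [IsScalarTower A B C] [Algebra.Etale B C] (q : Ideal C) [q.IsPrime] :
    H1BC A B (Localization.AtPrime q) :=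
  (H1BC.of_etale A B C).trans (H1BC.of_isLocalization A C _ q.primeCompl)

end Groth.Agent.NL17
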