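import Groth.Agent.NL17.Basic
import Groth.Agent.FiniteInjDescent.Projective
import Mathlib.RingTheory.Etale.Kaehler
import Mathlib.RingTheory.TensorProduct.MvPolynomial

/-!
# Base change of naive cotangent complexes along cocartesian squares
-/

set_option autoImplicit false
set_option linter.style.haveILetI false

universe u

open CategoryTheory TensorProduct Algebra MvPolynomial

attribute [local instance] HasDerivedCategory.standard MvPolynomial.algebraMvPolynomial

namespace Groth.Agent.NL17

variable {R S R' S' : Type u} [CommRing R] [CommRing S] [Algebra R S] [CommRing R'] [CommRing S']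
  [Algebra R' S'] [Algebra R R'] [Algebra S S'] [Algebra R S'] [IsScalarTower R R' S']
  [IsScalarTower R S S'] {ι : Type u} (G : Generators R S ι) (G' : Generators R' S' ι)
  (h : ∀ i, G'.val i = algebraMap S S' (G.val i))

omit [IsScalarTower R R' S'] [IsScalarTower R S S'] in
/-- Change of the diagonal algebra structure of a cocartesian square. -/
theorem isPushout_congr {R S A B : Type u} [CommRing R] [CommRing S] [CommRing A] [CommRing B]
    [Algebra R S] [Algebra R A] [Algebra S B] [Algebra A B] {i₁ i₂ : Algebra R B} (e : i₁ = i₂)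
    {t₁ : @IsScalarTower R A B _ _ i₁.toSMul} {t₂ : @IsScalarTower R A B _ _ i₂.toSMul}
    {u₁ : @IsScalarTower R S B _ _ i₁.toSMul} {u₂ : @IsScalarTower R S B _ _ i₂.toSMul}
    [h : @Algebra.IsPushout R S _ _ _ A B _ _ _ _ _ i₁ t₁ u₁] :
    @Algebra.IsPushout R S _ _ _ A B _ _ _ _ _ i₂ t₂ u₂ := by
  subst e; exact h

/-- The map `Q ⊗ I → J` is bijective if `R' ⊗ I → R' ⊗ P` is injective. -/
theorem bijective_cotF_of_isPushout {P : Extension.{u} R S} {Q : Extension.{u} R' S'} (f : P.Hom Q)
    [alg : Algebra P.Ring Q.Ring] (halg : algebraMap P.Ring Q.Ring = f.toRingHom)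
    [IsScalarTower R P.Ring Q.Ring] [Algebra.IsPushout R R' P.Ring Q.Ring]
    (hker : Q.ker ≤ P.ker.map f.toRingHom)
    (hinj : Function.Injective ((P.ker.subtype.restrictScalars R).lTensor R')) :
    Function.Bijective (cotF f) := by
  haveI : Algebra.IsPushout R P.Ring R' Q.Ring := Algebra.IsPushout.symm inferInstance
  let m := f.mapKer (alg := alg) halg
  have hH : Function.Bijective (m.liftBaseChange Q.Ring) := by
    constructor
    · let c := Algebra.IsPushout.cancelBaseChange R R' P.Ring Q.Ring
        P.ker
      let d := Algebra.IsPushout.cancelBaseChange R R' P.Ring Q.Ring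
        P.Ring
      have key : ∀ z : R' ⊗[R] P.ker,
          ((m.liftBaseChange Q.Ring (c.symm z) : Q.ker) :
            Q.Ring) = TensorProduct.AlgebraTensorModule.rid P.Ring
              Q.Ring Q.Ring
              (d.symm ((P.ker.subtype.restrictScalars R).lTensor R' z)) := by
        intro z
        induction z using TensorProduct.induction_on with
        | zero => simp only [map_zero, Submodule.coe_zero]
        | add a b ha hb => simp only [map_add, Submodule.coe_add, ha, hb]
        | tmul r a =>
          rw [LinearMap.lTensor_tmul, Algebra.IsPushout.cancelBaseChange_symm_tmul,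
            Algebra.IsPushout.cancelBaseChange_symm_tmul, LinearMap.liftBaseChange_tmul,
            TensorProduct.AlgebraTensorModule.rid_tmul, SetLike.val_smul, smul_eq_mul,
            LinearMap.restrictScalars_apply, Submodule.subtype_apply, Algebra.smul_def, mul_comm,
            halg]
          rfl
      intro a b hab
      apply c.injective
      apply hinj
      apply d.symm.injective
      apply (TensorProduct.AlgebraTensorModule.rid P.Ring Q.Ring
        Q.Ring).injective
      rw [← key, ← key, c.symm_apply_apply, c.symm_apply_apply, hab]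
    · rintro ⟨x, hx⟩
      have hx' : x ∈ P.ker.map f.toRingHom := hker hx
      suffices ∃ w, ((m.liftBaseChange Q.Ring w : Q.ker) :
          Q.Ring) = x by
        obtain ⟨w, hw⟩ := this
        exact ⟨w, Subtype.ext hw⟩
      clear hx
      induction hx' using Submodule.span_induction with
      | mem a ha =>
        obtain ⟨a, ha', rfl⟩ := ha
        exact ⟨1 ⊗ₜ ⟨a, ha'⟩, by rw [LinearMap.liftBaseChange_tmul, one_smul]; rfl⟩
      | zero => exact ⟨0, by rw [map_zero]; rfl⟩
      | add a b _ _ hia hib =>
        obtain ⟨v, hv⟩ := hia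
        obtain ⟨w, hw⟩ := hib
        exact ⟨v + w, by rw [map_add, Submodule.coe_add, hv, hw]⟩
      | smul c a _ hia =>
        obtain ⟨v, hv⟩ := hia
        exact ⟨c • v, by rw [map_smul, Submodule.coe_smul, hv]⟩
  let Qr : Extension.{u} R S' :=
    { Ring := Q.Ring
      commRing := Q.commRing
      algebra₂ := Q.algebra₂
      isScalarTower := inferInstanceAs (IsScalarTower R Q.Ring S')
      σ := Q.σ
      algebraMap_σ := Q.algebraMap_σ }
  let f' : P.Hom Qr := ⟨f.toRingHom, fun x =>
    (f.toRingHom_algebraMap x).trans (IsScalarTower.algebraMap_apply R R' Q.Ring x).symm,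
    f.algebraMap_toRingHom⟩
  have he := (Extension.tensorCotangent f' (alg := alg) halg hH).bijective
  exact he

/-- The morphism keeping the variables. -/
noncomputable abbrev sv : G.toExtension.Hom G'.toExtension :=
  (NLCx.sameVarsHom G G' h).toExtensionHom

theorem sv_toRingHom : (sv G G' h).toRingHom = MvPolynomial.map (algebraMap R R') := by
  refine MvPolynomial.ringHom_ext (fun r => ?_) fun i => ?_
  · exact ((sv G G' h).toRingHom_algebraMap r).trans (MvPolynomial.map_C _ r).symm
  · exact (Generators.Hom.toAlgHom_X (NLCx.sameVarsHom G G' h) i).trans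
      (MvPolynomial.map_X _ i).symm

theorem bijective_spF : Function.Bijective (spF (sv G G' h)) := by
  let b := G.cotangentSpaceBasis.baseChange S'
  let e := b.equiv G'.cotangentSpaceBasis (Equiv.refl ι)
  suffices spF (sv G G' h) = e.toLinearMap by rw [this]; exact e.bijective
  refine b.ext fun i => ?_
  rw [LinearEquiv.coe_coe, Module.Basis.equiv_apply, Module.Basis.baseChange_apply,
    LinearMap.liftBaseChange_tmul, one_smul, Generators.cotangentSpaceBasis_apply]
  erw [Extension.CotangentSpace.map_tmul]
  rw [map_one, Generators.cotangentSpaceBasis_apply]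
  congr 2
  exact (congr($(sv_toRingHom G G' h) (X i))).trans (MvPolynomial.map_X _ i)

section Pushout

variable [Algebra.IsPushout R R' S S']
include h

theorem isPushout_ring :
    letI : Algebra (MvPolynomial ι R) S := G.algebra
    letI : Algebra (MvPolynomial ι R') S' := G'.algebra
    letI : Algebra (MvPolynomial ι R) S' := ((algebraMap S S').comp G.algebra.algebraMap).toAlgebra
    haveI : IsScalarTower (MvPolynomial ι R) S S' := .of_algebraMap_eq' rfl
    ∃ _ : IsScalarTower (MvPolynomial ι R) (MvPolynomial ι R') S',
      Algebra.IsPushout (MvPolynomial ι R) (MvPolynomial ι R') S S' := by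
  letI : Algebra (MvPolynomial ι R) S := G.algebra
  letI : Algebra (MvPolynomial ι R') S' := G'.algebra
  letI : Algebra (MvPolynomial ι R) S' := ((algebraMap S S').comp G.algebra.algebraMap).toAlgebra
  haveI : IsScalarTower (MvPolynomial ι R) S S' := .of_algebraMap_eq' rfl
  haveI h1 : IsScalarTower (MvPolynomial ι R) (MvPolynomial ι R') S' := .of_algebraMap_eq' (by
    refine MvPolynomial.ringHom_ext (fun r => ?_) fun i => ?_
    · change algebraMap S S' (algebraMap G.Ring S (C r)) =
        algebraMap G'.Ring S' (MvPolynomial.map (algebraMap R R') (C r))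
      rw [G.algebraMap_apply, G'.algebraMap_apply]
      rw [aeval_C, MvPolynomial.map_C, aeval_C, ← IsScalarTower.algebraMap_apply,
        ← IsScalarTower.algebraMap_apply]
    · change algebraMap S S' (algebraMap G.Ring S (X i)) =
        algebraMap G'.Ring S' (MvPolynomial.map (algebraMap R R') (X i))
      rw [G.algebraMap_apply, G'.algebraMap_apply]
      rw [aeval_X, MvPolynomial.map_X, aeval_X, h])
  refine ⟨h1, ?_⟩
  haveI : IsScalarTower R (MvPolynomial ι R) S' := .of_algebraMap_eq fun r => by
    change algebraMap R S' r = algebraMap S S' (algebraMap G.Ring S (C r))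
    rw [G.algebraMap_apply, aeval_C, ← IsScalarTower.algebraMap_apply]
  exact ((Algebra.IsPushout.comp_iff (R := R) (S := MvPolynomial ι R) (T := S) (R' := R')
    (S' := MvPolynomial ι R') (T' := S')).1 (Algebra.IsPushout.symm inferInstance)).symm

theorem ker_le_map : G'.toExtension.ker ≤ G.toExtension.ker.map (sv G G' h).toRingHom := by
  letI : Algebra (MvPolynomial ι R) S := G.algebra
  letI : Algebra (MvPolynomial ι R') S' := G'.algebra
  letI : Algebra (MvPolynomial ι R) S' := ((algebraMap S S').comp G.algebra.algebraMap).toAlgebra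
  haveI : IsScalarTower (MvPolynomial ι R) S S' := .of_algebraMap_eq' rfl
  obtain ⟨_, hpo⟩ := isPushout_ring G G' h
  rw [sv_toRingHom]
  intro x hx
  let P := MvPolynomial ι R
  let P' := MvPolynomial ι R'
  let g := Algebra.ofId P S
  have hg : Function.Surjective g := G.algebraMap_surjective
  obtain ⟨x, rfl⟩ : ∃ y : P', y = x := ⟨x, rfl⟩
  have h1 : (x : P') ⊗ₜ[P] (1 : S) = 0 := by
    apply (Algebra.IsPushout.equiv P P' S S').injective
    rw [Algebra.IsPushout.equiv_tmul, map_one, mul_one, map_zero]
    exact hx
  have h2 : (x : P') ⊗ₜ[P] (1 : P) ∈ RingHom.ker (Algebra.TensorProduct.map (AlgHom.id P P') g) := by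
    rw [RingHom.mem_ker, Algebra.TensorProduct.map_tmul, map_one]
    exact h1
  rw [Algebra.TensorProduct.lTensor_ker g hg] at h2
  have h3 := Ideal.mem_map_of_mem (Algebra.TensorProduct.rid P P P') h2
  rw [Algebra.TensorProduct.rid_tmul, one_smul] at h3
  let K : Ideal P' := Ideal.map (MvPolynomial.map (algebraMap R R')) (RingHom.ker g)
  have hle : Ideal.map (Algebra.TensorProduct.rid P P P') (Ideal.map
      (Algebra.TensorProduct.includeRight : P →ₐ[P] P' ⊗[P] P) (RingHom.ker g)) ≤ K := by
    refine Ideal.map_le_iff_le_comap.2 (Ideal.map_le_iff_le_comap.2 fun p hp => ?_)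
    show (Algebra.TensorProduct.rid P P P') (1 ⊗ₜ p) ∈ K
    rw [Algebra.TensorProduct.rid_tmul, Algebra.smul_def, mul_one]
    exact Ideal.mem_map_of_mem _ hp
  exact hle h3

theorem surjective_cotF : Function.Surjective (cotF (sv G G' h)) := by
  intro y
  obtain ⟨⟨x, hx⟩, rfl⟩ := Extension.Cotangent.mk_surjective y
  have hle : G.toExtension.ker.map (sv G G' h).toRingHom ≤ G'.toExtension.ker :=
    Ideal.map_le_iff_le_comap.2 fun a ha => by
      show algebraMap _ S' ((sv G G' h).toRingHom a) = 0
      rw [Extension.Hom.algebraMap_toRingHom]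
      exact (congrArg (algebraMap S S') ha).trans (map_zero _)
  suffices ∀ (z : G'.toExtension.Ring), z ∈ G.toExtension.ker.map (sv G G' h).toRingHom →
      ∀ hz : z ∈ G'.toExtension.ker,
      Extension.Cotangent.mk (⟨z, hz⟩ : G'.toExtension.ker) ∈
        LinearMap.range (cotF (sv G G' h)) from
    this x (ker_le_map G G' h hx) hx
  intro z hz
  induction hz using Submodule.span_induction with
  | mem a ha =>
    obtain ⟨a, ha', rfl⟩ := ha
    exact fun _ => ⟨1 ⊗ₜ Extension.Cotangent.mk ⟨a, ha'⟩, by
      rw [cotF_tmul, one_smul, Extension.Cotangent.map_mk]; rfl⟩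
  | zero => exact fun _ => ⟨0, by rw [map_zero]; exact (map_zero Extension.Cotangent.mk).symm⟩
  | add a b ha hb hia hib =>
    intro _
    have : (⟨a + b, _⟩ : G'.toExtension.ker) = ⟨a, hle ha⟩ + ⟨b, hle hb⟩ := rfl
    rw [this, map_add]
    exact add_mem (hia (hle ha)) (hib (hle hb))
  | smul c a ha hia =>
    intro _
    have : (⟨c • a, _⟩ : G'.toExtension.ker) = c • ⟨a, hle ha⟩ := rfl
    rw [this, map_smul, ← algebraMap_smul S' c]
    exact Submodule.smul_mem _ _ (hia (hle ha))

theorem bijective_cotF (hinj' : Function.Injective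
      ((G.toExtension.ker.subtype.restrictScalars R).lTensor R')) :
    Function.Bijective (cotF (sv G G' h)) := by
  letI alg : Algebra G.toExtension.Ring G'.toExtension.Ring :=
    (MvPolynomial.algebraMvPolynomial : Algebra (MvPolynomial ι R) (MvPolynomial ι R'))
  have halg : algebraMap G.toExtension.Ring G'.toExtension.Ring = (sv G G' h).toRingHom :=
    (sv_toRingHom G G' h).symm
  haveI hst : IsScalarTower R G.toExtension.Ring G'.toExtension.Ring := .of_algebraMap_eq fun r => by
    rw [halg, Extension.Hom.toRingHom_algebraMap, ← IsScalarTower.algebraMap_apply]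
  haveI hpo : Algebra.IsPushout R R' G.toExtension.Ring G'.toExtension.Ring :=
    isPushout_congr (R := R) (S := R') (A := MvPolynomial ι R) (B := MvPolynomial ι R')
      (Algebra.algebra_ext _ _ fun r => (IsScalarTower.algebraMap_apply R R' (MvPolynomial ι R') r).trans
        (IsScalarTower.algebraMap_apply R R' G'.toExtension.Ring r).symm)
  exact bijective_cotF_of_isPushout (sv G G' h) halg (ker_le_map G G' h) hinj'

theorem bijective_cotF_of_flat [Module.Flat R R'] : Function.Bijective (cotF (sv G G' h)) :=
  bijective_cotF G G' h (Module.Flat.lTensor_preserves_injective_linearMap _ Subtype.val_injective)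

theorem bijective_cotF_of_flat' [Module.Flat R S] : Function.Bijective (cotF (sv G G' h)) :=
  bijective_cotF G G' h
    (Groth.Agent.FiniteInjDescent.lTensor_injective_of_flat_quotient
      (g := (IsScalarTower.toAlgHom R G.toExtension.Ring S).toLinearMap) Subtype.val_injective
      (fun y => ⟨fun hy => ⟨⟨y, hy⟩, rfl⟩, fun ⟨a, ha⟩ => ha ▸ a.2⟩)
      G.toExtension.algebraMap_surjective R')

/-- `bcMap` is surjective on `H⁻¹`. -/
theorem surjective_bcH1Map : Function.Surjective (NLCx.bcH1Map (sv G G' h)) := by
  rintro ⟨y, hy⟩
  obtain ⟨x, rfl⟩ := surjective_cotF G G' h y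
  refine ⟨⟨x, ?_⟩, rfl⟩
  apply (bijective_spF G G' h).injective
  rw [map_zero, ← LinearMap.comp_apply, spF_comp]
  exact hy

end Pushout

section Self

variable (R S R' S') [Algebra.IsPushout R R' S S']

/-- The base changed presentation on all elements of `S`. -/
noncomputable def baseGen : Generators R' S' S :=
  Generators.ofSurjective (algebraMap S S') (by
    rw [← AlgHom.range_eq_top]
    refine Algebra.eq_top_iff.2 fun x => ?_
    induction x using (Algebra.IsPushout.out : IsBaseChange R'
      (IsScalarTower.toAlgHom R S S').toLinearMap).inductionOn with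
    | zero => exact zero_mem _
    | tmul s => exact ⟨X s, aeval_X _ _⟩
    | smul c y hy => exact Subalgebra.smul_mem _ hy c
    | add y z hy hz => exact add_mem hy hz)

theorem baseGen_val (s : S) : (baseGen R S R' S').val s = algebraMap S S' s := rfl

theorem exists_homotopyEquiv_self
    (hinj : Function.Bijective
      (cotF (sv (Generators.self R S) (baseGen R S R' S') (baseGen_val R S R' S')))) :
    ∃ e : HomotopyEquiv (NLCx.bcCx (Generators.self R S).toExtension S')
        (NLCx.cx (Generators.self R' S').toExtension), e.hom = NLCx.bcMapSelf R S R' S' :=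
  exists_homotopyEquiv _ (isIso_bcMap _ hinj (bijective_spF _ _ _))
    ((baseGen R S R' S').defaultHom (Generators.self R' S')).toExtensionHom
    ((Generators.self R' S').defaultHom (baseGen R S R' S')).toExtensionHom _

end Self

end Groth.Agent.NL17
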