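import Groth.Agent.NL17.Conormal
import Groth.Agent.NL17.Pushout
import Groth.Agent.KRIdeal.Pres
import Groth.Prelude.Def_DRing2

/-!
# Naive cotangent complexes of local complete intersections
-/

set_option autoImplicit false
set_option linter.style.haveILetI false

universe u

open CategoryTheory CategoryTheory.Limits TensorProduct Algebra

attribute [local instance] HasDerivedCategory.standard

namespace Groth.Agent.NL17

section Generators

variable {A B : Type u} [CommRing A] [CommRing B] [Algebra A B]

/-- The conormal module of a presentation with Koszul regular kernel. -/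
theorem finite_projective_genCotangent {ι : Type u} (G : Generators A B ι)
    (hk : LCI.IsKoszulRegularIdeal (RingHom.ker (MvPolynomial.aeval (R := A) G.val).toRingHom)) :
    Module.Finite B G.toExtension.Cotangent ∧ Module.Projective B G.toExtension.Cotangent := by
  let P := G.toExtension
  have hker : P.ker = RingHom.ker (MvPolynomial.aeval (R := A) G.val).toRingHom :=
    Ideal.ext fun x => by
      show algebraMap G.Ring B x = 0 ↔ _
      rw [Generators.algebraMap_apply]
      rfl
  obtain ⟨hf, hp⟩ := finite_projective_cotangent (R := P.Ring) (I := P.ker) (hker ▸ hk)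
  let e : (P.Ring ⧸ P.ker) ≃+* B := RingHom.quotientKerEquivOfSurjective P.algebraMap_surjective
  letI : RingHomInvPair e.toRingHom e.symm.toRingHom := RingHomInvPair.of_ringEquiv e
  letI : RingHomInvPair e.symm.toRingHom e.toRingHom := RingHomInvPair.of_ringEquiv e.symm
  let l : P.ker.Cotangent ≃ₛₗ[e.toRingHom] P.Cotangent :=
    { toFun := Extension.Cotangent.of
      invFun := Extension.Cotangent.val
      map_add' := fun _ _ => rfl
      map_smul' := fun q x => by
        obtain ⟨p, rfl⟩ := Ideal.Quotient.mk_surjective q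
        show Extension.Cotangent.of (p • x) = algebraMap P.Ring B p • Extension.Cotangent.of x
        rw [algebraMap_smul]
        exact P.cotangentEquivCotangentKer.symm.map_smul p x
      left_inv := fun _ => rfl
      right_inv := fun _ => rfl }
  exact ⟨Module.Finite.of_surjective l.toLinearMap l.surjective,
    Module.Projective.of_equiv l⟩

/-- Moving the variables of a presentation to `Type u`. -/
theorem isKRI_ulift {n : ℕ} (v : Fin n → B)
    (hk : LCI.IsKoszulRegularIdeal (RingHom.ker (MvPolynomial.aeval (R := A) v).toRingHom)) :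
    LCI.IsKoszulRegularIdeal
      (RingHom.ker (MvPolynomial.aeval (R := A) (fun i : ULift.{u} (Fin n) => v i.down)).toRingHom) :=
  (Groth.Agent.KRIdeal.isKRI_ker_equiv_iff (MvPolynomial.renameEquiv A Equiv.ulift.{u, 0}).toRingEquiv _ _
    (congrArg AlgHom.toRingHom (MvPolynomial.algHom_ext
      (f := MvPolynomial.aeval (R := A) fun i : ULift.{u} (Fin n) => v i.down)
      (g := (MvPolynomial.aeval v).comp (MvPolynomial.renameEquiv A Equiv.ulift.{u, 0}).toAlgHom)
      fun i => by simp))).2 hk

theorem surjective_ulift {n : ℕ} (v : Fin n → B) (hv : Function.Surjective (MvPolynomial.aeval (R := A) v)) :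
    Function.Surjective (MvPolynomial.aeval (R := A) fun i : ULift.{u} (Fin n) => v i.down) := fun b => by
  obtain ⟨p, rfl⟩ := hv b
  exact ⟨MvPolynomial.rename ULift.up p, by simp [MvPolynomial.aeval_rename, Function.comp_def]⟩

/-- An LCI algebra has a perfect naive cotangent complex of amplitude `[-1, 0]`. -/
theorem perfect_amplitude_of_isLCI (h : LCI.IsLCI A B) :
    DRing.IsPerfect B (LCI.NL A B) ∧ DRing.HasTorAmplitudeIn B (-1) 0 (LCI.NL A B) := by
  obtain ⟨n, v, hv, hk⟩ := Groth.Agent.KRIdeal.exists_pker h
  let G : Generators A B (ULift.{u} (Fin n)) :=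
    Generators.ofSurjective _ (surjective_ulift v hv)
  obtain ⟨h₁, h₂⟩ := finite_projective_genCotangent G (isKRI_ulift v hk)
  haveI := h₁
  haveI := h₂
  let e := mapEquiv (P := G.toExtension) (P' := (Generators.self A B).toExtension)
    (G.defaultHom (Generators.self A B)).toExtensionHom
    ((Generators.self A B).defaultHom G).toExtensionHom
  haveI : QuasiIso e.hom := inferInstance
  have hiso := (DerivedCategory.isIso_Q_map_iff_quasiIso (C := ModuleCat.{u} B) e.hom).2 inferInstance
  let ei : DRing.toD (NLCx.cx G.toExtension) ≅ LCI.NL A B := @asIso _ _ _ _ _ hiso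
  have hz : ∀ i : ℤ, i < -1 ∨ 0 < i → IsZero ((NLCx.cx G.toExtension).X i) := fun i hi =>
    HomologicalComplex.isZero_double_X _ _ i (by omega) (by omega)
  haveI : Module.Finite B G.toExtension.CotangentSpace :=
    Module.Finite.of_basis G.cotangentSpaceBasis
  haveI : Module.Projective B G.toExtension.CotangentSpace :=
    Module.Projective.of_basis G.cotangentSpaceBasis
  have hterm : ∀ i : ℤ, Module.Finite B ((NLCx.cx G.toExtension).X i) ∧
      Module.Projective B ((NLCx.cx G.toExtension).X i) := fun i => by
    by_cases hi : i = -1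
    · subst hi
      let l := (HomologicalComplex.doubleXIso₀ (ModuleCat.ofHom G.toExtension.cotangentComplex)
        rel₀).toLinearEquiv
      exact ⟨Module.Finite.equiv l.symm, Module.Projective.of_equiv l.symm⟩
    · by_cases hi' : i = 0
      · subst hi'
        let l := (HomologicalComplex.doubleXIso₁ (ModuleCat.ofHom G.toExtension.cotangentComplex)
          rel₀ (by decide)).toLinearEquiv
        exact ⟨Module.Finite.equiv l.symm, Module.Projective.of_equiv l.symm⟩
      · haveI := ModuleCat.subsingleton_of_isZero (hz i (by omega))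
        exact ⟨inferInstance, inferInstance⟩
  refine ⟨⟨_, -1, 0, hz, hterm, ⟨ei⟩⟩, ⟨_, hz, fun i => ?_, ⟨ei⟩⟩⟩
  haveI := (hterm i).2
  exact Module.Flat.of_projective

end Generators

section Kernel

variable {R S R' S' : Type u} [CommRing R] [CommRing S] [Algebra R S] [CommRing R'] [CommRing S']
  [Algebra R' S'] [Algebra R R'] [Algebra S S'] [Algebra R S'] [IsScalarTower R R' S']
  [IsScalarTower R S S'] {P Q : Extension.{u} R S} {P' Q' : Extension.{u} R' S'}

/-- Homotopic maps agree on cycles. -/
theorem cotF_eq_of_mem (f g : P.Hom P') {x : S' ⊗[S] P.Cotangent} (hx : x ∈ NLCx.bcH1 P S') :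
    cotF f x = cotF g x := by
  have h : cotF f - cotF g = LinearMap.liftBaseChange S' (f.sub g) ∘ₗ P.cotangentComplex.baseChange S' := by
    ext a
    simpa using congrArg Extension.Cotangent.val
      (LinearMap.congr_fun (Extension.Cotangent.map_sub_map f g) a)
  have h' := LinearMap.congr_fun h x
  rw [LinearMap.comp_apply, LinearMap.mem_ker.1 hx, map_zero, LinearMap.sub_apply, sub_eq_zero] at h'
  exact h'

omit [Algebra R' S'] [Algebra R R'] [Algebra R S'] [IsScalarTower R R' S'] [IsScalarTower R S S'] in
theorem push_mem (a : P.Hom Q) {x : S' ⊗[S] P.Cotangent} (hx : x ∈ NLCx.bcH1 P S') :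
    (Extension.Cotangent.map a).baseChange S' x ∈ NLCx.bcH1 Q S' := by
  have h : Q.cotangentComplex.baseChange S' ∘ₗ (Extension.Cotangent.map a).baseChange S' =
      (Extension.CotangentSpace.map a).baseChange S' ∘ₗ P.cotangentComplex.baseChange S' := by
    ext y
    simp [Extension.CotangentSpace.map_cotangentComplex]
  refine LinearMap.mem_ker.2 ?_
  rw [← LinearMap.comp_apply, h, LinearMap.comp_apply, LinearMap.mem_ker.1 hx, map_zero]

omit [Algebra R' S'] [Algebra R R'] [Algebra R S'] [IsScalarTower R R' S'] [IsScalarTower R S S'] in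
theorem push_push (a : P.Hom Q) (b : Q.Hom P) {x : S' ⊗[S] P.Cotangent} (hx : x ∈ NLCx.bcH1 P S') :
    (Extension.Cotangent.map b).baseChange S' ((Extension.Cotangent.map a).baseChange S' x) = x := by
  have h : (Extension.Cotangent.map b).baseChange S' ∘ₗ (Extension.Cotangent.map a).baseChange S' -
      LinearMap.id = ((b.comp a).sub (.id P)).baseChange S' ∘ₗ P.cotangentComplex.baseChange S' := by
    rw [← LinearMap.baseChange_id, ← LinearMap.baseChange_comp, ← LinearMap.baseChange_comp,
      ← LinearMap.baseChange_sub, ← Extension.Cotangent.map_sub_map, Extension.Cotangent.map_id,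
      Extension.Cotangent.map_comp]
    rfl
  have h' := LinearMap.congr_fun h x
  rw [LinearMap.comp_apply, LinearMap.mem_ker.1 hx, map_zero, LinearMap.sub_apply, sub_eq_zero] at h'
  exact h'

omit [IsScalarTower R S S'] in
theorem cotF_push (g : Q.Hom Q') (a : P.Hom Q) (x : S' ⊗[S] P.Cotangent) :
    cotF g ((Extension.Cotangent.map a).baseChange S' x) = cotF (g.comp a) x := by
  induction x using TensorProduct.induction_on with
  | zero => simp only [map_zero]
  | add u v hu hv => simp only [map_add, hu, hv]
  | tmul s y => simp [Extension.Cotangent.map_comp]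

omit [IsScalarTower R S S'] in
theorem cotF_comp_left (f : P.Hom P') (a' : P'.Hom Q') (x : S' ⊗[S] P.Cotangent) :
    cotF (a'.comp f) x = Extension.Cotangent.map a' (cotF f x) := by
  induction x using TensorProduct.induction_on with
  | zero => simp only [map_zero]
  | add u v hu hv => simp only [map_add, hu, hv]
  | tmul s y => simp [Extension.Cotangent.map_comp]

/-- The kernel of `bcH1Map` does not depend on the presentations. -/
theorem nonempty_ker_equiv (f : P.Hom P') (g : Q.Hom Q') (a : P.Hom Q) (b : Q.Hom P) (a' : P'.Hom Q')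
    (b' : Q'.Hom P') :
    Nonempty (LinearMap.ker (NLCx.bcH1Map f) ≃ₗ[S'] LinearMap.ker (NLCx.bcH1Map g)) := by
  let φ : NLCx.bcH1 P S' →ₗ[S'] NLCx.bcH1 Q S' :=
    ((Extension.Cotangent.map a).baseChange S').restrict fun x hx => push_mem a hx
  let ψ : NLCx.bcH1 Q S' →ₗ[S'] NLCx.bcH1 P S' :=
    ((Extension.Cotangent.map b).baseChange S').restrict fun x hx => push_mem b hx
  have hφ : ∀ x ∈ LinearMap.ker (NLCx.bcH1Map f), φ x ∈ LinearMap.ker (NLCx.bcH1Map g) := fun x hx => by
    refine LinearMap.mem_ker.2 (Subtype.ext ?_)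
    show cotF g ((Extension.Cotangent.map a).baseChange S' x.1) = 0
    rw [cotF_push, cotF_eq_of_mem (g.comp a) (a'.comp f) x.2, cotF_comp_left,
      show cotF f x.1 = 0 from congrArg (fun z => Extension.h1Cotangentι z) (LinearMap.mem_ker.1 hx), map_zero]
  have hψ : ∀ x ∈ LinearMap.ker (NLCx.bcH1Map g), ψ x ∈ LinearMap.ker (NLCx.bcH1Map f) := fun x hx => by
    refine LinearMap.mem_ker.2 (Subtype.ext ?_)
    show cotF f ((Extension.Cotangent.map b).baseChange S' x.1) = 0
    rw [cotF_push, cotF_eq_of_mem (f.comp b) (b'.comp g) x.2, cotF_comp_left,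
      show cotF g x.1 = 0 from congrArg (fun z => Extension.h1Cotangentι z) (LinearMap.mem_ker.1 hx), map_zero]
  exact ⟨{ φ.restrict hφ with
    invFun := ψ.restrict hψ
    left_inv := fun x => Subtype.ext (Subtype.ext (push_push a b x.1.2))
    right_inv := fun x => Subtype.ext (Subtype.ext (push_push b a x.1.2)) }⟩

theorem finite_projective_ker [Algebra.IsPushout R R' S S'] (hB : LCI.IsLCI R S) (hB' : LCI.IsLCI R' S') :
    Module.Finite S' (LinearMap.ker (NLCx.bcH1Map
        ((Generators.self R S).defaultHom (Generators.self R' S')).toExtensionHom)) ∧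
      Module.Projective S' (LinearMap.ker (NLCx.bcH1Map
        ((Generators.self R S).defaultHom (Generators.self R' S')).toExtensionHom)) := by
  obtain ⟨n, v, hv, hk⟩ := Groth.Agent.KRIdeal.exists_pker hB
  let v' : Fin n → S' := fun i => algebraMap S S' (v i)
  have hv' : Function.Surjective (MvPolynomial.aeval (R := R') v') := by
    rw [← AlgHom.range_eq_top]
    refine Algebra.eq_top_iff.2 fun x => ?_
    induction x using (Algebra.IsPushout.out : IsBaseChange R'
      (IsScalarTower.toAlgHom R S S').toLinearMap).inductionOn with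
    | zero => exact zero_mem _
    | tmul s =>
      obtain ⟨p, rfl⟩ := hv s
      refine ⟨MvPolynomial.map (algebraMap R R') p, ?_⟩
      show MvPolynomial.aeval v' (MvPolynomial.map (algebraMap R R') p) = _
      rw [MvPolynomial.aeval_map_algebraMap]
      exact AlgHom.congr_fun (MvPolynomial.comp_aeval v (IsScalarTower.toAlgHom R S S')).symm p
    | smul c y hy => exact Subalgebra.smul_mem _ hy c
    | add y z hy hz => exact add_mem hy hz
  let G : Generators R S (ULift.{u} (Fin n)) := Generators.ofSurjective _ (surjective_ulift v hv)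
  let G' : Generators R' S' (ULift.{u} (Fin n)) := Generators.ofSurjective _ (surjective_ulift v' hv')
  have hG : ∀ i, G'.val i = algebraMap S S' (G.val i) := fun i => rfl
  obtain ⟨hfin, hproj⟩ := finite_projective_genCotangent G (isKRI_ulift v hk)
  obtain ⟨hfin', hproj'⟩ := finite_projective_genCotangent G'
    (isKRI_ulift v' (Groth.Agent.KRIdeal.isKRI_ker_of_isLCI hB' _ hv'))
  let f := (NLCx.sameVarsHom G G' hG).toExtensionHom
  let c := cotF f
  obtain ⟨σ, hσ⟩ := Module.projective_lifting_property c LinearMap.id (surjective_cotF G G' hG)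
  have hc : Function.Surjective c := surjective_cotF G G' hG
  let π : S' ⊗[S] G.toExtension.Cotangent →ₗ[S'] LinearMap.ker c :=
    (LinearMap.id - σ ∘ₗ c).codRestrict _ fun x => by
      rw [LinearMap.mem_ker, LinearMap.sub_apply, map_sub, LinearMap.id_apply, LinearMap.comp_apply,
        ← LinearMap.comp_apply c σ, hσ, LinearMap.id_apply, sub_self]
  have hπ : π ∘ₗ (LinearMap.ker c).subtype = LinearMap.id := LinearMap.ext fun x => Subtype.ext (by
    show x.1 - σ (c x.1) = x.1
    rw [show c x.1 = 0 from x.2, map_zero, sub_zero])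
  haveI hcf : Module.Finite S' (LinearMap.ker c) :=
    Module.Finite.of_surjective π fun x => ⟨x.1, LinearMap.congr_fun hπ x⟩
  haveI hcp : Module.Projective S' (LinearMap.ker c) := Module.Projective.of_split _ π hπ
  have hmem : ∀ x ∈ LinearMap.ker c, x ∈ NLCx.bcH1 G.toExtension S' := fun x hx => by
    refine LinearMap.mem_ker.2 ((bijective_spF G G' hG).injective ?_)
    rw [map_zero, ← LinearMap.comp_apply, spF_comp, LinearMap.comp_apply, LinearMap.mem_ker.1 hx, map_zero]
  let e₀ : LinearMap.ker c ≃ₗ[S'] LinearMap.ker (NLCx.bcH1Map f) :=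
    { toFun := fun x => ⟨⟨x.1, hmem _ x.2⟩, LinearMap.mem_ker.2 (Subtype.ext (LinearMap.mem_ker.1 x.2))⟩
      map_add' := fun _ _ => rfl
      map_smul' := fun _ _ => rfl
      invFun := fun x => ⟨x.1.1, LinearMap.mem_ker.2 (congrArg (fun z => Extension.h1Cotangentι z) (LinearMap.mem_ker.1 x.2))⟩
      left_inv := fun _ => rfl
      right_inv := fun _ => rfl }
  obtain ⟨e₁⟩ := nonempty_ker_equiv f
    ((Generators.self R S).defaultHom (Generators.self R' S')).toExtensionHom
    (G.defaultHom (Generators.self R S)).toExtensionHom ((Generators.self R S).defaultHom G).toExtensionHom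
    (G'.defaultHom (Generators.self R' S')).toExtensionHom
    ((Generators.self R' S').defaultHom G').toExtensionHom
  exact ⟨Module.Finite.equiv (e₀ ≪≫ₗ e₁), Module.Projective.of_equiv (e₀ ≪≫ₗ e₁)⟩

end Kernel

end Groth.Agent.NL17
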