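import Groth.Agent.NL17.EtaleStage
import Groth.Agent.SHensel17.EssEtale

/-!
# `H¹` of the naive cotangent complex along unions of essentially étale local algebras
-/

set_option autoImplicit false
set_option linter.style.haveILetI false

universe u

open IsLocalRing TensorProduct Algebra MvPolynomial

namespace Groth.Agent.NL17

section Maps

variable {A E H : Type u} [CommRing A] [CommRing E] [CommRing H] [Algebra A E] [Algebra A H]
  [Algebra E H] [IsScalarTower A E H]

theorem toAlgHom_default :
    (((Generators.self A E).defaultHom (Generators.self A H)).toExtensionHom).toAlgHom =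
      MvPolynomial.rename (algebraMap E H) := by
  refine MvPolynomial.algHom_ext fun e => ?_
  exact (Generators.Hom.toAlgHom_X ((Generators.self A E).defaultHom (Generators.self A H)) e).trans
    (MvPolynomial.rename_X _ e).symm

theorem h1map_mk (p : (Generators.self A E).toExtension.ker)
    (hp : (Generators.self A E).toExtension.cotangentComplex (.mk p) = 0) :
    ∃ hq, ((Algebra.H1Cotangent.map A A E H ⟨.mk p, hp⟩) : (Generators.self A H).toExtension.H1Cotangent).1 =
      Extension.Cotangent.mk ⟨MvPolynomial.rename (algebraMap E H) p.1, hq⟩ := by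
  let f := ((Generators.self A E).defaultHom (Generators.self A H)).toExtensionHom
  have key : f.toAlgHom p.1 = MvPolynomial.rename (algebraMap E H) p.1 :=
    congr($(toAlgHom_default (A := A) (E := E) (H := H)) p.1)
  have hker : f.toAlgHom p.1 ∈ (Generators.self A H).toExtension.ker := by
    show algebraMap _ H (f.toRingHom p.1) = 0
    rw [f.algebraMap_toRingHom, show algebraMap _ E p.1 = 0 from p.2, map_zero]
  exact ⟨key ▸ hker, (Extension.Cotangent.map_mk f p).trans
    (congrArg Extension.Cotangent.mk (Subtype.ext key))⟩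

theorem ker_iff (p : MvPolynomial E A) (hinj : Function.Injective (algebraMap E H)) :
    MvPolynomial.rename (algebraMap E H) p ∈ (Generators.self A H).toExtension.ker ↔
      p ∈ (Generators.self A E).toExtension.ker := by
  show algebraMap (Generators.self A H).Ring H _ = 0 ↔ algebraMap (Generators.self A E).Ring E p = 0
  rw [Generators.algebraMap_apply, Generators.algebraMap_apply, aeval_rename]
  have : aeval (R := A) ((Generators.self A H).val ∘ algebraMap E H) p =
      algebraMap E H (aeval (Generators.self A E).val p) :=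
    (AlgHom.congr_fun (MvPolynomial.comp_aeval (Generators.self A E).val
      (IsScalarTower.toAlgHom A E H)) p).symm
  rw [this, map_eq_zero_iff _ hinj]

/-- Cycles descend along injective maps. -/
theorem cotangentComplex_eq_zero (hinj : Function.Injective (algebraMap E H))
    (p : (Generators.self A E).toExtension.ker)
    (hq : MvPolynomial.rename (algebraMap E H) p.1 ∈ (Generators.self A H).toExtension.ker)
    (h : (Generators.self A H).toExtension.cotangentComplex (.mk ⟨_, hq⟩) = 0) :
    (Generators.self A E).toExtension.cotangentComplex (.mk p) = 0 := by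
  rw [Extension.cotangentComplex_mk] at h ⊢
  apply (Generators.self A E).cotangentSpaceBasis.repr.injective
  ext e
  rw [map_zero, Finsupp.zero_apply, Generators.cotangentSpaceBasis_repr_one_tmul]
  have h2 := congrArg (fun z => (Generators.self A H).cotangentSpaceBasis.repr z (algebraMap E H e)) h
  simp only [Generators.cotangentSpaceBasis_repr_one_tmul, map_zero, Finsupp.zero_apply] at h2
  rw [MvPolynomial.pderiv_rename hinj, aeval_rename] at h2
  apply hinj
  rw [map_zero, ← h2]
  exact AlgHom.congr_fun (MvPolynomial.comp_aeval (Generators.self A E).val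
    (IsScalarTower.toAlgHom A E H)) _

end Maps

section Union

variable {B H : Type u} [CommRing B] [IsLocalRing B] [CommRing H] [IsLocalRing H] [Algebra B H]

/-- A local ring of an étale algebra inside `H`. -/
structure Stage (B H : Type u) [CommRing B] [CommRing H] [Algebra B H] where
  (C : Type u)
  [commRing : CommRing C]
  [algebra : Algebra B C]
  [etale : Algebra.Etale B C]
  (q : Ideal C)
  [prime : q.IsPrime]
  (θ : Localization.AtPrime q →ₐ[B] H)
  (inj : Function.Injective θ)
  (loc : IsLocalHom θ.toRingHom)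

attribute [instance] Stage.commRing Stage.algebra Stage.etale Stage.prime

/-- The ring of a stage. -/
abbrev Stage.E (i : Stage B H) : Type u := Localization.AtPrime i.q

theorem exists_stage [Algebra.WeaklyEtale B H]
    (hrep : ∀ x : H, ∃ (C : Type u) (_ : CommRing C) (_ : Algebra B C) (_ : Algebra.Etale B C)
      (τ : C →ₐ[B] H) (c : C), τ c = x) (s : Finset H) :
    ∃ i : Stage B H, ∀ x ∈ s, x ∈ i.θ.range := by
  obtain ⟨C, _, _, _, τ, hτ⟩ := HenselLib.exists_common_rep hrep s
  let q := (maximalIdeal H).comap τ.toRingHom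
  let Cq := Localization.AtPrime q
  have hu : ∀ y : q.primeCompl, IsUnit (τ y) := fun y => not_not.1 y.2
  let θ : Cq →ₐ[B] H := IsLocalization.liftAlgHom hu
  have hθ : ∀ c, θ (algebraMap C Cq c) = τ c := fun c => IsLocalization.lift_eq _ c
  have hloc : IsLocalHom θ.toRingHom := ⟨fun x hx => by
    obtain ⟨a, s, rfl⟩ := IsLocalization.exists_mk'_eq q.primeCompl x
    refine (IsLocalization.AtPrime.isUnit_mk'_iff Cq q a s).2 fun ha => ha ?_
    show IsUnit (τ a)
    rw [← hθ, ← IsLocalization.mk'_spec Cq a s, map_mul, hθ]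
    exact IsUnit.mul hx (hu s)⟩
  have hinj : Function.Injective θ := by
    letI : Algebra C H := τ.toRingHom.toAlgebra
    haveI : IsScalarTower B C H := .of_algebraMap_eq fun a => (τ.commutes a).symm
    haveI : Algebra.WeaklyEtale C H := Groth.Agent.S7127.result B C H
    letI : Algebra Cq H := θ.toRingHom.toAlgebra
    haveI : IsScalarTower C Cq H := .of_algebraMap_eq fun c => (hθ c).symm
    haveI : Algebra.WeaklyEtale C Cq := Groth.Agent.WEtaleVal.weaklyEtale_of_isLocalization q.primeCompl
    haveI : Algebra.WeaklyEtale Cq H := Groth.Agent.S7127.result C Cq H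
    haveI : IsLocalHom (algebraMap Cq H) := hloc
    haveI : Module.FaithfullyFlat Cq H := Module.FaithfullyFlat.of_flat_of_isLocalHom
    exact FaithfulSMul.algebraMap_injective Cq H
  exact ⟨⟨C, q, θ, hinj, hloc⟩, fun x hx => by
    obtain ⟨c, rfl⟩ := hτ x hx
    exact ⟨algebraMap C Cq c, hθ c⟩⟩

variable (hU : ∀ s : Finset H, ∃ i : Stage B H, ∀ x ∈ s, x ∈ i.θ.range)
include hU

omit [IsLocalRing B] [IsLocalRing H] in
theorem exists_ge (i : Stage B H) (s : Finset H) :
    ∃ (j : Stage B H) (ι : i.E →ₐ[B] j.E), j.θ.comp ι = i.θ ∧ ∀ x ∈ s, x ∈ j.θ.range := by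
  classical
  obtain ⟨t, ht⟩ := (Algebra.FiniteType.out : (⊤ : Subalgebra B i.C).FG)
  obtain ⟨j, hj⟩ := hU (s ∪ t.image fun c => i.θ (algebraMap i.C i.E c))
  have hC : ∀ c, i.θ (algebraMap i.C i.E c) ∈ j.θ.range := by
    have : Algebra.adjoin B (t : Set i.C) ≤ j.θ.range.comap
        (i.θ.comp (IsScalarTower.toAlgHom B i.C i.E)) :=
      Algebra.adjoin_le fun c hc => hj _ (Finset.mem_union_right _ (Finset.mem_image_of_mem _ hc))
    rw [ht] at this
    exact fun c => this (Algebra.mem_top : c ∈ (⊤ : Subalgebra B i.C))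
  have hall : ∀ e, i.θ e ∈ j.θ.range := fun e => by
    obtain ⟨a, b, rfl⟩ := IsLocalization.exists_mk'_eq i.q.primeCompl e
    obtain ⟨y, hy⟩ := hC a
    obtain ⟨w, hw⟩ := hC b
    have hb : IsUnit (i.θ (algebraMap i.C i.E b)) := (IsLocalization.map_units i.E b).map i.θ
    have hwu : IsUnit w := j.loc.map_nonunit w (by
      show IsUnit (j.θ w)
      exact hw ▸ hb)
    obtain ⟨w', rfl⟩ := hwu
    refine ⟨y * ↑w'⁻¹, hb.mul_right_cancel ?_⟩
    rw [← map_mul i.θ, IsLocalization.mk'_spec, ← hy, ← hw]
    show j.θ (y * ↑w'⁻¹) * j.θ w' = j.θ y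
    rw [← map_mul, mul_assoc, Units.inv_mul, mul_one]
  let e := AlgEquiv.ofInjective j.θ j.inj
  refine ⟨j, e.symm.toAlgHom.comp (i.θ.codRestrict j.θ.range hall), AlgHom.ext fun x => ?_,
    fun x hx => hj x (Finset.mem_union_left _ hx)⟩
  exact congrArg Subtype.val (e.apply_symm_apply _)

variable (A : Type u) [CommRing A] [Algebra A B] [Algebra A H] [IsScalarTower A B H]

omit [IsLocalRing B] [IsLocalRing H] in
theorem h1bc_of_union : H1BC A B H := by
  classical
  letI : ∀ i : Stage B H, Algebra A i.C := fun i => ((algebraMap B i.C).comp (algebraMap A B)).toAlgebra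
  haveI : ∀ i : Stage B H, IsScalarTower A B i.C := fun i => .of_algebraMap_eq' rfl
  haveI : ∀ i : Stage B H, IsScalarTower A B i.E := fun i => .of_algebraMap_eq fun a => by
    rw [IsScalarTower.algebraMap_apply A i.C i.E, IsScalarTower.algebraMap_apply A B i.C,
      ← IsScalarTower.algebraMap_apply B i.C i.E]
  let PH := (Generators.self A H).toExtension
  let L := (Algebra.H1Cotangent.map A A B H).liftBaseChange H
  let Li := fun i : Stage B H => (Algebra.H1Cotangent.map A A B i.E).liftBaseChange i.E
  have hLi : ∀ i, Function.Bijective (Li i) := fun i => H1BC.of_etale_atPrime A B i.C i.q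
  have hbase : ∀ (i : Stage B H) (T : Type u) [CommRing T] [Algebra A T] [Algebra B T]
      [IsScalarTower A B T] (g : i.E →ₐ[B] T) (w : i.E ⊗[B] Algebra.H1Cotangent A B),
      (Algebra.H1Cotangent.map A A B T).liftBaseChange T (g.toLinearMap.rTensor _ w) =
        (letI := g.toRingHom.toAlgebra
         haveI : IsScalarTower A i.E T := .of_algebraMap_eq fun a => by
           show algebraMap A T a = g (algebraMap A i.E a)
           rw [IsScalarTower.algebraMap_apply A B i.E, g.commutes, ← IsScalarTower.algebraMap_apply]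
         Algebra.H1Cotangent.map A A i.E T (Li i w)) := by
    intro i T _ _ _ _ g w
    letI := g.toRingHom.toAlgebra
    haveI : IsScalarTower B i.E T := .of_algebraMap_eq fun b => (g.commutes b).symm
    haveI : IsScalarTower A i.E T := .of_algebraMap_eq fun a => by
      show algebraMap A T a = g (algebraMap A i.E a)
      rw [IsScalarTower.algebraMap_apply A B i.E, g.commutes, ← IsScalarTower.algebraMap_apply]
    induction w using TensorProduct.induction_on with
    | zero => simp only [map_zero]
    | add a b ha hb => simp only [map_add, ha, hb]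
    | tmul c x =>
      simp only [Li, LinearMap.rTensor_tmul, LinearMap.liftBaseChange_tmul, map_smul, h1map_map]
      exact algebraMap_smul T c _
  constructor
  · refine (injective_iff_map_eq_zero L).2 fun w hw => ?_
    obtain ⟨i, w', rfl⟩ : ∃ (i : Stage B H) (w' : i.E ⊗[B] Algebra.H1Cotangent A B),
        i.θ.toLinearMap.rTensor _ w' = w := by
      clear hw
      induction w using TensorProduct.induction_on with
      | zero => obtain ⟨i, -⟩ := hU ∅; exact ⟨i, 0, map_zero _⟩
      | tmul c x =>
        obtain ⟨i, hi⟩ := hU {c}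
        obtain ⟨e, he⟩ := hi c (Finset.mem_singleton_self c)
        exact ⟨i, e ⊗ₜ x, by rw [LinearMap.rTensor_tmul]; exact congrArg (· ⊗ₜ x) he⟩
      | add a b ha hb =>
        obtain ⟨i, a', rfl⟩ := ha
        obtain ⟨i', b', rfl⟩ := hb
        obtain ⟨S, hS⟩ := TensorProduct.exists_finset b'
        obtain ⟨m, μ, hμ, hm⟩ := exists_ge hU i (S.image fun p => i'.θ p.1)
        choose e he using fun p (hp : p ∈ S) => hm (i'.θ p.1) (Finset.mem_image_of_mem (fun p => i'.θ p.1) hp)
        refine ⟨m, μ.toLinearMap.rTensor _ a' + ∑ p ∈ S.attach, e p.1 p.2 ⊗ₜ p.1.2, ?_⟩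
        rw [map_add, ← LinearMap.rTensor_comp_apply, ← AlgHom.comp_toLinearMap, hμ, map_sum, hS,
          map_sum, ← Finset.sum_attach S (fun p => i'.θ.toLinearMap.rTensor _ (p.1 ⊗ₜ[B] p.2))]
        congr 1
        refine Finset.sum_congr rfl fun p _ => ?_
        rw [LinearMap.rTensor_tmul, LinearMap.rTensor_tmul]
        exact congrArg (· ⊗ₜ p.1.2) (he p.1 p.2)
    have hz := (hbase i H i.θ w').symm.trans hw
    letI := i.θ.toRingHom.toAlgebra
    haveI : IsScalarTower A i.E H := .of_algebraMap_eq fun a => by
      show algebraMap A H a = i.θ (algebraMap A i.E a)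
      rw [IsScalarTower.algebraMap_apply A B i.E, i.θ.commutes, ← IsScalarTower.algebraMap_apply]
    obtain ⟨⟨x, hx⟩, hxe⟩ : ∃ x, Li i w' = x := ⟨_, rfl⟩
    obtain ⟨p, rfl⟩ := Extension.Cotangent.mk_surjective x
    rw [hxe] at hz
    obtain ⟨hq, hmap⟩ := h1map_mk (H := H) p hx
    have hsq : MvPolynomial.rename (algebraMap i.E H) p.1 ∈ (PH.ker ^ 2 : Ideal PH.Ring) :=
      Extension.Cotangent.mk_eq_zero_iff _ |>.1 (hmap.symm.trans (congrArg Subtype.val hz))
    have key : ∀ z ∈ (PH.ker ^ 2 : Ideal PH.Ring), ∃ F : Finset H, ∀ j : Stage B H,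
        (∀ h ∈ F, h ∈ j.θ.range) → ∃ z' : MvPolynomial j.E A,
          z' ∈ ((Generators.self A j.E).toExtension.ker ^ 2 : Ideal (MvPolynomial j.E A)) ∧
            MvPolynomial.rename j.θ z' = z := by
      intro z hz
      rw [pow_two] at hz
      refine Submodule.mul_induction_on hz (fun a ha b hb => ?_) fun a b ha hb => ?_
      · refine ⟨MvPolynomial.vars (R := A) a ∪ MvPolynomial.vars (R := A) b, fun j hj => ?_⟩
        obtain ⟨a', ha'⟩ := MvPolynomial.exists_rename_eq_of_vars_subset_range a j.θ j.inj
          (fun v hv => by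
            obtain ⟨e, he⟩ := hj v (Finset.mem_union_left _ hv)
            exact ⟨e, he⟩)
        obtain ⟨b', hb'⟩ := MvPolynomial.exists_rename_eq_of_vars_subset_range b j.θ j.inj
          (fun v hv => by
            obtain ⟨e, he⟩ := hj v (Finset.mem_union_right _ hv)
            exact ⟨e, he⟩)
        letI := j.θ.toRingHom.toAlgebra
        haveI : IsScalarTower A j.E H := .of_algebraMap_eq fun a => by
          show algebraMap A H a = j.θ (algebraMap A j.E a)
          rw [IsScalarTower.algebraMap_apply A B j.E, j.θ.commutes, ← IsScalarTower.algebraMap_apply]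
        refine ⟨a' * b', by
          erw [pow_two]
          exact Ideal.mul_mem_mul ((ker_iff a' j.inj).1 (ha' ▸ ha)) ((ker_iff b' j.inj).1 (hb' ▸ hb)),
          (map_mul _ a' b').trans (congrArg₂ (· * ·) ha' hb')⟩
      · obtain ⟨F, hF⟩ := ha
        obtain ⟨G, hG⟩ := hb
        refine ⟨F ∪ G, fun j hj => ?_⟩
        obtain ⟨a', ha, rfl⟩ := hF j fun h hh => hj h (Finset.mem_union_left _ hh)
        obtain ⟨b', hb, rfl⟩ := hG j fun h hh => hj h (Finset.mem_union_right _ hh)
        exact ⟨a' + b', add_mem ha hb, map_add _ _ _⟩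
    obtain ⟨F, hF⟩ := key _ hsq
    obtain ⟨j, ι, hι, hj⟩ := exists_ge hU i F
    obtain ⟨z', hz', hzr⟩ := hF j hj
    letI := ι.toRingHom.toAlgebra
    haveI : IsScalarTower A i.E j.E := .of_algebraMap_eq fun a => by
      show algebraMap A j.E a = ι (algebraMap A i.E a)
      rw [IsScalarTower.algebraMap_apply A B i.E, ι.commutes, ← IsScalarTower.algebraMap_apply]
    obtain ⟨hq', hmap'⟩ := h1map_mk (H := j.E) p hx
    have hpz : MvPolynomial.rename (algebraMap i.E j.E) p.1 = z' := by
      refine MvPolynomial.rename_injective _ j.inj (Eq.trans ?_ hzr.symm)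
      rw [MvPolynomial.rename_rename]
      exact congrFun (congrArg (fun f => ⇑(MvPolynomial.rename (R := A) f))
        (funext fun e => AlgHom.congr_fun hι e)) p.1
    have hw'' : Li j (ι.toLinearMap.rTensor _ w') = 0 := by
      refine (hbase i j.E ι w').trans ?_
      rw [hxe]
      refine Subtype.ext (hmap'.trans ?_)
      exact (Extension.Cotangent.mk_eq_zero_iff _).2 (hpz ▸ hz')
    have h0 : ι.toLinearMap.rTensor _ w' = 0 := (hLi j).1 (hw''.trans (map_zero _).symm)
    rw [← hι, AlgHom.comp_toLinearMap, LinearMap.rTensor_comp_apply, h0, map_zero]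
  · rintro ⟨y, hy⟩
    obtain ⟨⟨p, hp⟩, rfl⟩ := Extension.Cotangent.mk_surjective y
    obtain ⟨i, hi⟩ := hU (MvPolynomial.vars (R := A) p)
    obtain ⟨p', rfl⟩ := MvPolynomial.exists_rename_eq_of_vars_subset_range p i.θ i.inj
      (fun v hv => by
        obtain ⟨e, he⟩ := hi v hv
        exact ⟨e, he⟩)
    letI := i.θ.toRingHom.toAlgebra
    haveI : IsScalarTower A i.E H := .of_algebraMap_eq fun a => by
      show algebraMap A H a = i.θ (algebraMap A i.E a)
      rw [IsScalarTower.algebraMap_apply A B i.E, i.θ.commutes, ← IsScalarTower.algebraMap_apply]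
    have hk := (ker_iff p' i.inj).1 hp
    have hd := cotangentComplex_eq_zero i.inj ⟨p', hk⟩ hp hy
    obtain ⟨w, hw⟩ := (hLi i).2 ⟨_, hd⟩
    refine ⟨i.θ.toLinearMap.rTensor _ w, (hbase i H i.θ w).trans ?_⟩
    rw [hw]
    obtain ⟨_, hm⟩ := h1map_mk (H := H) ⟨p', hk⟩ hd
    exact Subtype.ext hm

omit [IsLocalRing B] [IsLocalRing H] A [CommRing A] [Algebra A B] [Algebra A H] [IsScalarTower A B H] in
theorem subsingleton_kaehler : Subsingleton Ω[H⁄B] := by
  rw [← Submodule.subsingleton_iff H, ← subsingleton_iff_bot_eq_top, ← KaehlerDifferential.span_range_derivation,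
    eq_comm, Submodule.span_eq_bot]
  rintro _ ⟨x, rfl⟩
  obtain ⟨i, hi⟩ := hU {x}
  obtain ⟨e, rfl⟩ := hi x (Finset.mem_singleton_self x)
  letI := i.θ.toRingHom.toAlgebra
  haveI : IsScalarTower B i.E H := .of_algebraMap_eq fun b => (i.θ.commutes b).symm
  haveI : Algebra.FormallyUnramified B i.E := Algebra.FormallyUnramified.comp B i.C i.E
  have := (KaehlerDifferential.map_D B B i.E H e).symm
  rw [Subsingleton.elim (KaehlerDifferential.D B i.E e) 0, map_zero] at this
  exact this

omit [IsLocalRing B] [IsLocalRing H] A [CommRing A] [Algebra A B] [Algebra A H] [IsScalarTower A B H] in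
theorem subsingleton_h1Cotangent : Subsingleton (Algebra.H1Cotangent B H) := by
  have := (h1bc_of_union hU B).2
  exact this.subsingleton

end Union

end Groth.Agent.NL17
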